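import Cfsg.Agent.H425.NR.Pair
import Cfsg.Agent.H701.FpfG2

/-!
# `G₂(q)` (helper425, for S3440)
-/

set_option autoImplicit false
set_option linter.style.haveILetI false
set_option linter.unusedSectionVars false

namespace Cfsg.Agent.H425.NR

open Cfsg Cfsg.Lie Matrix
open Cfsg.Agent.H80.Fpf Cfsg.Agent.H701.FpfTwo Cfsg.Agent.H343 Cfsg.Agent.ETable.Exc
open Cfsg.Agent.H378.ExcAdj Cfsg.Agent.H378.RegFin Cfsg.Agent.Nodes.RGDChev Cfsg.Agent.BpExc.FamInst
open Cfsg.Agent.BpExc.RowsUntw Cfsg.Agent.H701.FpfG2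

/-- **`G₂(q)`, `q ≥ 3`.** -/
theorem out_G2 {F : Type} [Field F] [Fintype F] (hF : 3 ≤ Fintype.card F) {a b : ℕ}
    (hT : TwoMay ↥(Cfsg.Lie.chevG2.group F) a b) : PairOut ↥(Cfsg.Lie.chevG2.group F) a b := by
  rcases Nat.lt_or_ge (Fintype.card F) 5 with h5 | h5
  · have hc := Cfsg.Agent.S1059.result (F := F) rfl
    have h2 : Fintype.card F = 3 ∨ Fintype.card F = 4 := by omega
    have key : ∀ r : ℕ, r.Prime → 5 ≤ r → r ∣ Nat.card ↥(Cfsg.Lie.chevG2.group F) →
        May r ↥(Cfsg.Lie.chevG2.group F) → r = 7 ∨ r = 13 := by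
      intro r hr hr5 hd hM
      by_contra hcon
      push Not at hcon
      refine not_may_small hr (by omega) ?_ hM
      have h1 := hd
      rw [hc] at h1
      rcases h2 with h2 | h2
      · rw [h2] at h1 ⊢
        have h3 : r ∣ 3 ^ 6 * 2 ^ 6 * 7 * 13 := by norm_num at h1 ⊢; exact h1
        rw [hr.dvd_mul, hr.dvd_mul, hr.dvd_mul] at h3
        rcases h3 with ((h3 | h3) | h3) | h3
        · have := (Nat.prime_dvd_prime_iff_eq hr Nat.prime_three).1 (hr.dvd_of_dvd_pow h3)
          rw [this]; norm_num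
        · have := ((Nat.prime_dvd_prime_iff_eq hr Nat.prime_two).1 (hr.dvd_of_dvd_pow h3))
          omega
        · exact absurd ((Nat.prime_dvd_prime_iff_eq hr (by norm_num)).1 h3) hcon.1
        · exact absurd ((Nat.prime_dvd_prime_iff_eq hr (by norm_num)).1 h3) hcon.2
      · rw [h2] at h1 ⊢
        have h3 : r ∣ 2 ^ 12 * 3 ^ 3 * 5 ^ 2 * 7 * 13 := by norm_num at h1 ⊢; exact h1
        rw [hr.dvd_mul, hr.dvd_mul, hr.dvd_mul, hr.dvd_mul] at h3
        rcases h3 with (((h3 | h3) | h3) | h3) | h3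
        · have := ((Nat.prime_dvd_prime_iff_eq hr Nat.prime_two).1 (hr.dvd_of_dvd_pow h3))
          omega
        · have := (Nat.prime_dvd_prime_iff_eq hr Nat.prime_three).1 (hr.dvd_of_dvd_pow h3)
          rw [this]; norm_num
        · have := (Nat.prime_dvd_prime_iff_eq hr Nat.prime_five).1 (hr.dvd_of_dvd_pow h3)
          rw [this]; norm_num
        · exact absurd ((Nat.prime_dvd_prime_iff_eq hr (by norm_num)).1 h3) hcon.1
        · exact absurd ((Nat.prime_dvd_prime_iff_eq hr (by norm_num)).1 h3) hcon.2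
    have hsq : ∀ r : ℕ, r = 7 ∨ r = 13 → ∀ y : ↥(Cfsg.Lie.chevG2.group F), orderOf y ≠ r ^ 2 := by
      intro r hr
      apply order_ne_of_card
      rw [hc]
      rcases hr with rfl | rfl <;> rcases h2 with h2 | h2 <;> rw [h2] <;> norm_num
    have ka := key a hT.pa hT.a5 hT.da hT.ma
    have kb := key b hT.pb hT.b5 hT.db hT.mb
    have hne := hT.ne
    refine Or.inr (Or.inr ⟨hsq a ka, hsq b kb, Or.inl ?_⟩)
    rcases ka with rfl | rfl <;> rcases kb with rfl | rfl
    · exact absurd rfl hne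
    · norm_num
    · norm_num
    · exact absurd rfl hne
  · exfalso
    have hcard : Nat.card F = Fintype.card F := Nat.card_eq_fintype_card
    have hq : 1 ≤ Nat.card F := Nat.card_pos
    have key : ∀ r : ℕ, r.Prime → 5 ≤ r → r ∣ Nat.card ↥(Cfsg.Lie.chevG2.group F) →
        ¬ May r ↥(Cfsg.Lie.chevG2.group F) := by
      intro r hr hr5 hd
      have hr2 : r ≠ 2 := by omega
      rcases od_G2 hr hd with h | h | h | h | h
      · apply not_may_small hr hr2
        rw [← hcard]
        exact dvd_mul_of_dvd_left h _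
      · apply not_may_small hr hr2
        rw [← hcard]
        exact dvd_mul_of_dvd_right (dvd_of_od_dvd hq (by rw [h]; norm_num)) _
      · apply not_may_small hr hr2
        rw [← hcard]
        exact dvd_mul_of_dvd_right (dvd_of_od_dvd hq (by rw [h])) _
      · exact not_may_big h5 hr hr2 hd (Or.inl h)
      · exact not_may_big h5 hr hr2 hd (Or.inr h)
    exact key a hT.pa hT.a5 hT.da hT.ma

end Cfsg.Agent.H425.NR
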