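import Cfsg.Agent.H80.Fpf.RowSp
import Cfsg.Agent.H517.Fpf.Psl
import Cfsg.Agent.H700.FpfPsu.Main
import Cfsg.Agent.H97.FpfRows
import Cfsg.Agent.H522.FpfRowPlus

/-!
# Simple groups with two primes `a, b ≥ 5` acting fixed point freely (helper425, for S3440)

`TwoMay S a b` : `a ≠ b` are primes `≥ 5` dividing `|S|` with `May a S`, `May b S`.  The classical families:
this happens only for `PSL₂(a)`, `b ∣ a + 1` (and conversely), and for `PSL₃(4)`, `PSL₄(2)` with `{5, 7}`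
and possibly `PSU₆(2)` with `{5, 11}`.
-/

set_option autoImplicit false
set_option linter.style.haveILetI false
set_option linter.unusedSectionVars false

namespace Cfsg.Agent.H425.NR

open Cfsg Cfsg.Agent.H80.Fpf

/-- two primes `≥ 5` acting fixed point freely -/
structure TwoMay (S : Type*) [Group S] (a b : ℕ) : Prop where
  pa : a.Prime
  pb : b.Prime
  a5 : 5 ≤ a
  b5 : 5 ≤ b
  ne : a ≠ b
  da : a ∣ Nat.card S
  db : b ∣ Nat.card S
  ma : May a S
  mb : May b S

theorem TwoMay.symm {S : Type*} [Group S] {a b : ℕ} (h : TwoMay S a b) : TwoMay S b a :=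
  ⟨h.pb, h.pa, h.b5, h.a5, h.ne.symm, h.db, h.da, h.mb, h.ma⟩

theorem TwoMay.of_equiv {S T : Type*} [Group S] [Group T] (e : S ≃* T) {a b : ℕ} (h : TwoMay S a b) : TwoMay T a b :=
  ⟨h.pa, h.pb, h.a5, h.b5, h.ne, Nat.card_congr e.toEquiv ▸ h.da, Nat.card_congr e.toEquiv ▸ h.db,
    h.ma.of_equiv e, h.mb.of_equiv e⟩

/-- The outcome: `PSL₂` of prime characteristic, or numerical conditions. -/
def PairOut (S : Type*) [Group S] (a b : ℕ) : Prop :=
  (∃ (F : Type) (_ : Field F) (_ : Fintype F), Fintype.card F = a ∧ b ∣ a + 1 ∧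
    Nonempty (S ≃* Matrix.ProjectiveSpecialLinearGroup (Fin 2) F)) ∨
  (∃ (F : Type) (_ : Field F) (_ : Fintype F), Fintype.card F = b ∧ a ∣ b + 1 ∧
    Nonempty (S ≃* Matrix.ProjectiveSpecialLinearGroup (Fin 2) F)) ∨
  ((∀ y : S, orderOf y ≠ a ^ 2) ∧ (∀ y : S, orderOf y ≠ b ^ 2) ∧
    ((3 * b + a < a ^ 2 + 1 ∧ 3 * a + b < b ^ 2 + 1) ∨ (a = 5 ∧ b = 11) ∨ (a = 11 ∧ b = 5) ∨
      (((a = 5 ∧ b = 13) ∨ (a = 13 ∧ b = 5)) ∧ 7 ∣ Nat.card S) ∨
      (((a = 5 ∧ b = 7) ∨ (a = 7 ∧ b = 5)) ∧ ∃ (F : Type) (_ : Field F) (_ : Fintype F),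
        (Fintype.card F = 4 ∧ Nonempty (S ≃* Matrix.ProjectiveSpecialLinearGroup (Fin 3) F)) ∨
        (Fintype.card F = 2 ∧ Nonempty (S ≃* Matrix.ProjectiveSpecialLinearGroup (Fin 4) F)))))

theorem PairOut.of_equiv {S T : Type*} [Group S] [Group T] (e : S ≃* T) {a b : ℕ} (h : PairOut S a b) :
    PairOut T a b := by
  have hc : Nat.card S = Nat.card T := Nat.card_congr e.toEquiv
  have ho : ∀ n : ℕ, (∀ y : S, orderOf y ≠ n) → ∀ y : T, orderOf y ≠ n := by
    intro n h1 y h2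
    apply h1 (e.symm y)
    rw [← h2]
    exact MulEquiv.orderOf_eq e.symm y
  rcases h with ⟨F, i1, i2, h1, h2, ⟨f⟩⟩ | ⟨F, i1, i2, h1, h2, ⟨f⟩⟩ | ⟨h1, h2, h3⟩
  · exact Or.inl ⟨F, i1, i2, h1, h2, ⟨e.symm.trans f⟩⟩
  · exact Or.inr (Or.inl ⟨F, i1, i2, h1, h2, ⟨e.symm.trans f⟩⟩)
  · refine Or.inr (Or.inr ⟨ho _ h1, ho _ h2, ?_⟩)
    rcases h3 with h3 | h3 | h3 | ⟨h3, h4⟩ | ⟨h3, F, i1, i2, h4⟩
    · exact Or.inl h3
    · exact Or.inr (Or.inl h3)
    · exact Or.inr (Or.inr (Or.inl h3))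
    · exact Or.inr (Or.inr (Or.inr (Or.inl ⟨h3, hc ▸ h4⟩)))
    · refine Or.inr (Or.inr (Or.inr (Or.inr ⟨h3, F, i1, i2, ?_⟩)))
      rcases h4 with ⟨h4, ⟨f⟩⟩ | ⟨h4, ⟨f⟩⟩
      · exact Or.inl ⟨h4, ⟨e.symm.trans f⟩⟩
      · exact Or.inr ⟨h4, ⟨e.symm.trans f⟩⟩

theorem order_ne_of_card {S : Type*} [Group S] [Finite S] {n : ℕ} (h : ¬ n ∣ Nat.card S) (y : S) : orderOf y ≠ n :=
  fun h1 => h (h1 ▸ orderOf_dvd_natCard y)

/-! ### `PSL₂` -/

section L2

variable {F : Type} [Field F] [Fintype F]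

/-- upper unitriangular matrices -/
def ut (x : F) : Matrix.SpecialLinearGroup (Fin 2) F := ⟨!![1, x; 0, 1], by rw [Matrix.det_fin_two_of]; simp⟩

theorem ut_mul (x y : F) : ut x * ut y = ut (x + y) := by
  apply Subtype.ext
  rw [Matrix.SpecialLinearGroup.coe_mul]
  ext i j
  fin_cases i <;> fin_cases j <;> simp [ut, Matrix.mul_apply, Fin.sum_univ_two, add_comm]

theorem ut_zero : ut (0 : F) = 1 := by
  apply Subtype.ext
  ext i j
  fin_cases i <;> fin_cases j <;> simp [ut]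

theorem ut_pow (x : F) (k : ℕ) : ut x ^ k = ut (k * x) := by
  induction k with
  | zero => simp [ut_zero]
  | succ k ih => rw [pow_succ, ih, ut_mul]; congr 1; push_cast; ring

/-- The characteristic is excluded for non-prime fields. -/
theorem not_may_char_psl2 {l : ℕ} (hl : l.Prime) (hl2 : l ≠ 2) [CharP F l] (hF : Fintype.card F ≠ l) :
    ¬ May l (Matrix.ProjectiveSpecialLinearGroup (Fin 2) F) := by
  haveI : Fact l.Prime := ⟨hl⟩
  -- an element outside the prime field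
  obtain ⟨x, hx⟩ : ∃ x : F, ∀ k : ℕ, (k : F) ≠ x := by
    by_contra hcon
    push Not at hcon
    apply hF
    have hsurj : Function.Surjective (fun k : Fin l => ((k : ℕ) : F)) := by
      intro x
      obtain ⟨k, hk⟩ := hcon x
      refine ⟨⟨k % l, Nat.mod_lt _ hl.pos⟩, ?_⟩
      rw [← hk]
      exact (CharP.cast_eq_mod F l k).symm
    have h1 := Fintype.card_le_of_surjective _ hsurj
    rw [Fintype.card_fin] at h1
    obtain ⟨n, -, hn⟩ := FiniteField.card F l
    have h2 : l ≤ Fintype.card F := by rw [hn]; exact Nat.le_self_pow n.ne_zero l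
    omega
  have hker : ∀ y : F, pr F (ut y) = 1 → y = 0 := by
    intro y hy
    have h1 : ut y ∈ (pr F).ker := hy
    rw [ker_pr, Matrix.SpecialLinearGroup.mem_center_iff] at h1
    obtain ⟨c, -, hc⟩ := h1
    have h2 := congrFun (congrFun hc 0) 1
    simp [ut, Matrix.scalar_apply] at h2
    exact h2.symm
  have hord : ∀ y : F, y ≠ 0 → orderOf (pr F (ut y)) = l := by
    intro y hy
    apply orderOf_eq_prime
    · rw [← map_pow, ut_pow, CharP.cast_eq_zero, zero_mul, ut_zero, map_one]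
    · exact fun h => hy (hker y h)
  have hx0 : x ≠ 0 := by
    rintro rfl
    exact hx 0 (by simp)
  refine not_may_of_comm (a := pr F (ut 1)) (b := pr F (ut x)) hl hl2 ?_ (hord 1 one_ne_zero) (hord x hx0) ?_
  · rw [← map_mul, ← map_mul, ut_mul, ut_mul, add_comm]
  · intro h
    obtain ⟨k, hk⟩ := mem_powers_iff_mem_zpowers.2 h
    replace hk : pr F (ut 1) ^ k = pr F (ut x) := hk
    have h1 : pr F (ut (x - k)) = 1 := by
      have h2 : ut (x - k) * ut 1 ^ k = ut x := by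
        rw [ut_pow, ut_mul]
        congr 1
        ring
      have h3 := congrArg (pr F) h2
      rw [map_mul, map_pow, hk] at h3
      exact mul_eq_right.1 h3
    exact hx k (sub_eq_zero.1 (hker _ h1)).symm

theorem dvd_psl2 {r : ℕ} (hr : r.Prime) (hd : r ∣ Nat.card (Matrix.ProjectiveSpecialLinearGroup (Fin 2) F)) :
    r ∣ Fintype.card F ∨ r ∣ Fintype.card F - 1 ∨ r ∣ Fintype.card F + 1 := by
  have hc := Cfsg.Agent.S0243.result (F := F) (q := Fintype.card F) rfl 2 (by norm_num)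
  rw [Fin.prod_univ_two] at hc
  have h1 : r ∣ (Fintype.card F ^ 2 - Fintype.card F ^ ((0 : Fin 2) : ℕ)) *
      (Fintype.card F ^ 2 - Fintype.card F ^ ((1 : Fin 2) : ℕ)) := by
    rw [← hc]
    exact (hd.mul_left _).mul_left _
  simp only [Fin.val_zero, pow_zero, Fin.val_one, pow_one] at h1
  have e1 : Fintype.card F ^ 2 - 1 = (Fintype.card F + 1) * (Fintype.card F - 1) := by
    have := Nat.sq_sub_sq (Fintype.card F) 1
    rw [one_pow] at this
    exact this
  have e2 : Fintype.card F ^ 2 - Fintype.card F = Fintype.card F * (Fintype.card F - 1) := by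
    rw [Nat.mul_sub, sq, mul_one]
  rw [e1, e2] at h1
  rcases hr.dvd_mul.1 h1 with h2 | h2
  · rcases hr.dvd_mul.1 h2 with h3 | h3
    · exact Or.inr (Or.inr h3)
    · exact Or.inr (Or.inl h3)
  · rcases hr.dvd_mul.1 h2 with h3 | h3
    · exact Or.inl h3
    · exact Or.inr (Or.inl h3)

/-- **`PSL₂`** -/
theorem two_psl2 (h4 : 4 ≤ Fintype.card F) {a b : ℕ}
    (h : TwoMay (Matrix.ProjectiveSpecialLinearGroup (Fin 2) F) a b) :
    (Fintype.card F = a ∧ b ∣ a + 1) ∨ (Fintype.card F = b ∧ a ∣ b + 1) := by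
  obtain ⟨l, hl⟩ := CharP.exists F
  haveI := hl
  obtain ⟨n, hlp, hn⟩ := FiniteField.card F l
  have hne4 : Fintype.card F ≠ 4 := by
    intro h4'
    have key : ∀ r : ℕ, r.Prime → 5 ≤ r → r ∣ Nat.card (Matrix.ProjectiveSpecialLinearGroup (Fin 2) F) → r = 5 := by
      intro r hr h5 hd
      rcases dvd_psl2 hr hd with h1 | h1 | h1 <;> rw [h4'] at h1
      · have := Nat.le_of_dvd (by norm_num) h1; omega
      · have := Nat.le_of_dvd (by norm_num) h1; omega
      · have := Nat.le_of_dvd (by norm_num) h1; omega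
    exact h.ne ((key a h.pa h.a5 h.da).trans (key b h.pb h.b5 h.db).symm)
  have key : ∀ r : ℕ, r.Prime → 5 ≤ r → r ∣ Nat.card (Matrix.ProjectiveSpecialLinearGroup (Fin 2) F) →
      May r (Matrix.ProjectiveSpecialLinearGroup (Fin 2) F) → Fintype.card F = r ∨ r ∣ Fintype.card F + 1 := by
    intro r hr h5 hd hM
    rcases dvd_psl2 hr hd with h1 | h1 | h1
    · left
      have h2 : r = l := by
        rw [hn] at h1
        exact (Nat.prime_dvd_prime_iff_eq hr hlp).1 (hr.dvd_of_dvd_pow h1)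
      subst h2
      by_contra h3
      exact not_may_char_psl2 hr (by omega) h3 hM
    · exact absurd hM (not_may_sub_one (by omega) hne4 hr (by omega) h1)
    · exact Or.inr h1
  have ka := key a h.pa h.a5 h.da h.ma
  have kb := key b h.pb h.b5 h.db h.mb
  have ha2 : a ≠ 2 := by have := h.a5; omega
  have hb2 : b ≠ 2 := by have := h.b5; omega
  rcases ka with ka | ka <;> rcases kb with kb | kb
  · exact absurd (ka.symm.trans kb) h.ne
  · left
    exact ⟨ka, ka ▸ kb⟩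
  · right
    exact ⟨kb, kb ▸ ka⟩
  · exfalso
    rcases lt_or_gt_of_ne h.ne with h1 | h1
    · exact not_may_add_one (by omega) h.pa ha2 h.pb hb2 h1 ka kb h.ma
    · exact not_may_add_one (by omega) h.pb hb2 h.pa ha2 h1 kb ka h.mb

theorem out_psl2 (h4 : 4 ≤ Fintype.card F) {a b : ℕ}
    (h : TwoMay (Matrix.ProjectiveSpecialLinearGroup (Fin 2) F) a b) :
    PairOut (Matrix.ProjectiveSpecialLinearGroup (Fin 2) F) a b := by
  rcases two_psl2 h4 h with ⟨h1, h2⟩ | ⟨h1, h2⟩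
  · exact Or.inl ⟨F, inferInstance, inferInstance, h1, h2, ⟨MulEquiv.refl _⟩⟩
  · exact Or.inr (Or.inl ⟨F, inferInstance, inferInstance, h1, h2, ⟨MulEquiv.refl _⟩⟩)

end L2

/-! ### `PSL_n`, `n ≥ 3` -/

section Ln

open Cfsg.Agent.H517.FpfPsl

theorem out_psln {F : Type} [Field F] [Fintype F] {n : ℕ} (hn : 3 ≤ n) {a b : ℕ}
    (h : TwoMay (Matrix.ProjectiveSpecialLinearGroup (Fin n) F) a b) :
    PairOut (Matrix.ProjectiveSpecialLinearGroup (Fin n) F) a b := by
  classical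
  have ha2 : a ≠ 2 := by have := h.a5; omega
  have hb2 : b ≠ 2 := by have := h.b5; omega
  have hndvd : ∀ r : ℕ, r.Prime → orderOf ((Fintype.card F : ℕ) : ZMod r) = n → ¬ r ∣ Fintype.card F := by
    intro r hr ho h
    have : Fact r.Prime := ⟨hr⟩
    have h1 : ((Fintype.card F : ℕ) : ZMod r) = 0 := (ZMod.natCast_eq_zero_iff _ _).2 h
    rw [h1] at ho
    have h2 : (0 : ZMod r) ^ orderOf (0 : ZMod r) = 1 := pow_orderOf_eq_one _
    rw [ho, zero_pow (by omega)] at h2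
    exact zero_ne_one h2
  have hcard := card_psl_dvd (F := F) n
  rw [Matrix.card_GL_field] at hcard
  by_cases hex : (n, Fintype.card F) ∈ ({(3, 2), (3, 4), (4, 2)} : Set (ℕ × ℕ))
  · simp only [Set.mem_insert_iff, Set.mem_singleton_iff, Prod.mk.injEq] at hex
    rcases hex with ⟨rfl, hF⟩ | ⟨rfl, hF⟩ | ⟨rfl, hF⟩
    · exfalso
      rw [hF] at hcard
      have key : ∀ r : ℕ, r.Prime → 5 ≤ r → r ∣ Nat.card (Matrix.ProjectiveSpecialLinearGroup (Fin 3) F) → r = 7 := by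
        intro r hr h5 hd
        have h1 := hd.trans hcard
        rw [show ∏ i : Fin 3, (2 ^ 3 - 2 ^ (i : ℕ)) = 2 ^ 3 * 3 * 7 by decide, hr.dvd_mul, hr.dvd_mul] at h1
        rcases h1 with (h1 | h1) | h1
        · have := (Nat.prime_dvd_prime_iff_eq hr Nat.prime_two).1 (hr.dvd_of_dvd_pow h1); omega
        · have := (Nat.prime_dvd_prime_iff_eq hr Nat.prime_three).1 h1; omega
        · exact (Nat.prime_dvd_prime_iff_eq hr (by norm_num)).1 h1
      exact h.ne ((key a h.pa h.a5 h.da).trans (key b h.pb h.b5 h.db).symm)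
    · rw [hF, show ∏ i : Fin 3, (4 ^ 3 - 4 ^ (i : ℕ)) = 2 ^ 6 * 3 ^ 4 * 5 * 7 by decide] at hcard
      have key : ∀ r : ℕ, r.Prime → 5 ≤ r → r ∣ Nat.card (Matrix.ProjectiveSpecialLinearGroup (Fin 3) F) →
          r = 5 ∨ r = 7 := by
        intro r hr h5 hd
        have h1 := hd.trans hcard
        rw [hr.dvd_mul, hr.dvd_mul, hr.dvd_mul] at h1
        rcases h1 with ((h1 | h1) | h1) | h1
        · have := (Nat.prime_dvd_prime_iff_eq hr Nat.prime_two).1 (hr.dvd_of_dvd_pow h1); omega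
        · have := (Nat.prime_dvd_prime_iff_eq hr Nat.prime_three).1 (hr.dvd_of_dvd_pow h1); omega
        · exact Or.inl ((Nat.prime_dvd_prime_iff_eq hr Nat.prime_five).1 h1)
        · exact Or.inr ((Nat.prime_dvd_prime_iff_eq hr (by norm_num)).1 h1)
      have hsq : ∀ r : ℕ, r = 5 ∨ r = 7 → ∀ y : Matrix.ProjectiveSpecialLinearGroup (Fin 3) F, orderOf y ≠ r ^ 2 := by
        intro r hr
        apply order_ne_of_card
        intro h1
        have h2 := h1.trans hcard
        rcases hr with rfl | rfl <;> norm_num at h2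
      refine Or.inr (Or.inr ⟨hsq a (key a h.pa h.a5 h.da), hsq b (key b h.pb h.b5 h.db), ?_⟩)
      have ka := key a h.pa h.a5 h.da
      have kb := key b h.pb h.b5 h.db
      have hne := h.ne
      exact Or.inr (Or.inr (Or.inr (Or.inr ⟨by omega, F, inferInstance, inferInstance, Or.inl ⟨hF, ⟨MulEquiv.refl _⟩⟩⟩)))
    · rw [hF, show ∏ i : Fin 4, (2 ^ 4 - 2 ^ (i : ℕ)) = 2 ^ 6 * 3 ^ 2 * 5 * 7 by decide] at hcard
      have key : ∀ r : ℕ, r.Prime → 5 ≤ r → r ∣ Nat.card (Matrix.ProjectiveSpecialLinearGroup (Fin 4) F) →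
          r = 5 ∨ r = 7 := by
        intro r hr h5 hd
        have h1 := hd.trans hcard
        rw [hr.dvd_mul, hr.dvd_mul, hr.dvd_mul] at h1
        rcases h1 with ((h1 | h1) | h1) | h1
        · have := (Nat.prime_dvd_prime_iff_eq hr Nat.prime_two).1 (hr.dvd_of_dvd_pow h1); omega
        · have := (Nat.prime_dvd_prime_iff_eq hr Nat.prime_three).1 (hr.dvd_of_dvd_pow h1); omega
        · exact Or.inl ((Nat.prime_dvd_prime_iff_eq hr Nat.prime_five).1 h1)
        · exact Or.inr ((Nat.prime_dvd_prime_iff_eq hr (by norm_num)).1 h1)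
      have hsq : ∀ r : ℕ, r = 5 ∨ r = 7 → ∀ y : Matrix.ProjectiveSpecialLinearGroup (Fin 4) F, orderOf y ≠ r ^ 2 := by
        intro r hr
        apply order_ne_of_card
        intro h1
        have h2 := h1.trans hcard
        rcases hr with rfl | rfl <;> norm_num at h2
      refine Or.inr (Or.inr ⟨hsq a (key a h.pa h.a5 h.da), hsq b (key b h.pb h.b5 h.db), ?_⟩)
      have ka := key a h.pa h.a5 h.da
      have kb := key b h.pb h.b5 h.db
      have hne := h.ne
      exact Or.inr (Or.inr (Or.inr (Or.inr ⟨by omega, F, inferInstance, inferInstance, Or.inr ⟨hF, ⟨MulEquiv.refl _⟩⟩⟩)))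
  exfalso
  have hord : ∀ r : ℕ, r.Prime → r ≠ 2 → r ∣ Nat.card (Matrix.ProjectiveSpecialLinearGroup (Fin n) F) →
      May r (Matrix.ProjectiveSpecialLinearGroup (Fin n) F) → orderOf ((Fintype.card F : ℕ) : ZMod r) = n := by
    intro r hr hr2 hd hM
    by_contra h
    exact not_may hn hex hr hr2 hd h hM
  have hoa := hord a h.pa ha2 h.da h.ma
  have hob := hord b h.pb hb2 h.db h.mb
  by_cases hex' : (n, Fintype.card F) ∈ ({(3, 2), (3, 4), (4, 2), (4, 3)} : Set (ℕ × ℕ))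
  · have h43 : n = 4 ∧ Fintype.card F = 3 := by
      simp only [Set.mem_insert_iff, Set.mem_singleton_iff, Prod.mk.injEq] at hex hex'
      tauto
    obtain ⟨rfl, hF⟩ := h43
    rw [hF, show ∏ i : Fin 4, (3 ^ 4 - 3 ^ (i : ℕ)) = 2 ^ 9 * 3 ^ 6 * 5 * 13 by decide] at hcard
    have key : ∀ r : ℕ, r.Prime → 5 ≤ r → orderOf ((Fintype.card F : ℕ) : ZMod r) = 4 →
        r ∣ Nat.card (Matrix.ProjectiveSpecialLinearGroup (Fin 4) F) → r = 5 := by
      intro r hr h5 ho hd
      have h1 := hd.trans hcard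
      rw [hr.dvd_mul, hr.dvd_mul, hr.dvd_mul] at h1
      rcases h1 with ((h1 | h1) | h1) | h1
      · have := (Nat.prime_dvd_prime_iff_eq hr Nat.prime_two).1 (hr.dvd_of_dvd_pow h1); omega
      · have := (Nat.prime_dvd_prime_iff_eq hr Nat.prime_three).1 (hr.dvd_of_dvd_pow h1); omega
      · exact (Nat.prime_dvd_prime_iff_eq hr Nat.prime_five).1 h1
      · exfalso
        obtain rfl := (Nat.prime_dvd_prime_iff_eq hr (by norm_num)).1 h1
        rw [hF] at ho
        have h2 : orderOf ((3 : ℕ) : ZMod 13) ∣ 3 := orderOf_dvd_of_pow_eq_one (by decide)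
        rw [ho] at h2
        norm_num at h2
    exact h.ne ((key a h.pa h.a5 hoa h.da).trans (key b h.pb h.b5 hob h.db).symm)
  · rcases lt_or_gt_of_ne h.ne with h1 | h1
    · exact not_lt_of_may hn hex' h.pa ha2 h.pb h1 (hndvd a h.pa hoa) hoa hob h.da h.ma
    · exact not_lt_of_may hn hex' h.pb hb2 h.pa h1 (hndvd b h.pb hob) hob hoa h.db h.mb

end Ln

end Cfsg.Agent.H425.NR
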