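import Cfsg.Agent.H425.NR.PairPsu
import Cfsg.Agent.H425.NR.Pair

/-!
# Orthogonal groups: no two primes `≥ 5` acting fixed point freely (helper425, for S3440)
-/

set_option autoImplicit false
set_option linter.style.haveILetI false
set_option linter.unusedSectionVars false

namespace Cfsg.Agent.H425.NR

open Cfsg Cfsg.Agent.H80.Fpf Cfsg.Agent.H97.FpfO

variable {F : Type} [Field F] [Fintype F]

theorem not_two_via_psl2 {K : Type} [Field K] [Fintype K] (hK4 : 4 ≤ Fintype.card K) {a b : ℕ}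
    (h : TwoMay (Matrix.ProjectiveSpecialLinearGroup (Fin 2) K) a b) (ha : a ∣ Fintype.card K + 1)
    (hb : b ∣ Fintype.card K + 1) : False := by
  rcases two_psl2 hK4 h with ⟨h1, -⟩ | ⟨h1, -⟩
  · rw [h1] at ha
    have h2 : a ∣ 1 := (Nat.dvd_add_right dvd_rfl).1 ha
    have := h.pa.one_lt.ne' (Nat.dvd_one.1 h2)
    exact this
  · rw [h1] at hb
    have h2 : b ∣ 1 := (Nat.dvd_add_right dvd_rfl).1 hb
    have := h.pb.one_lt.ne' (Nat.dvd_one.1 h2)
    exact this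

/-- **`PΩ_{2m+1}(q)`** -/
theorem not_two_odd (m : ℕ) (hm : 3 ≤ m) (hodd : Odd (Fintype.card F)) {a b : ℕ}
    (h : TwoMay (Cfsg.POmega F (Cfsg.quadFormOdd m F)) a b) : False := by
  have hq2 : 2 ≤ Fintype.card F := Fintype.one_lt_card
  have hqm : 4 ≤ Fintype.card F ^ m := by
    calc 4 = 2 ^ 2 := by norm_num
      _ ≤ 2 ^ m := Nat.pow_le_pow_right (by norm_num) (by omega)
      _ ≤ _ := Nat.pow_le_pow_left hq2 m
  have ha2 : a ≠ 2 := by have := h.a5; omega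
  have hb2 : b ≠ 2 := by have := h.b5; omega
  have ha := odd_core m hm hodd h.pa ha2 h.da h.ma
  have hb := odd_core m hm hodd h.pb hb2 h.db h.mb
  rcases Nat.even_or_odd m with he | ho
  · obtain ⟨K, i1, i2, hK, hM⟩ := Cfsg.Agent.H522.FpfEmb.odd_psl F he (by omega) hodd
    refine not_two_via_psl2 (K := K) (by rw [hK]; exact hqm) (a := a) (b := b)
      ⟨h.pa, h.pb, h.a5, h.b5, h.ne, Cfsg.Agent.H97.FpfO.dvd_psl2 (K := K) hK (by omega) h.pa ha2 ha.1, Cfsg.Agent.H97.FpfO.dvd_psl2 (K := K) hK (by omega) h.pb hb2 hb.1,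
        hM h.ma, hM h.mb⟩ (hK ▸ ha.1) (hK ▸ hb.1)
  · obtain ⟨K, i1, i2, hK, hM⟩ := Cfsg.Agent.H522.FpfEmb.odd_psu F ho hm hodd
    refine not_two_psu (F := K) (n := m) (q := Fintype.card F) hK hm ?_ ?_ (a := a) (b := b)
      ⟨h.pa, h.pb, h.a5, h.b5, h.ne, dvd_psu hK (by omega) hm ho h.pa ha.1 ha.2, dvd_psu hK (by omega) hm ho h.pb hb.1 hb.2,
        hM h.ma, hM h.mb⟩
    · rintro ⟨-, h⟩
      rw [h] at hodd
      exact absurd hodd (by decide)
    · rintro ⟨-, h⟩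
      rw [h] at hodd
      exact absurd hodd (by decide)

/-- **`PΩ^-_{2m}(q)`** -/
theorem not_two_minus (m : ℕ) (hm : 4 ≤ m) (c d : F)
    (hab : ∀ z₁ z₂ : F, z₁ ^ 2 + c * z₁ * z₂ + d * z₂ ^ 2 = 0 → z₁ = 0 ∧ z₂ = 0) {a b : ℕ}
    (h : TwoMay (Cfsg.POmega F (Cfsg.quadFormMinus (m - 1) F c d)) a b) : False := by
  have hq2 : 2 ≤ Fintype.card F := Fintype.one_lt_card
  have hqm : 4 ≤ Fintype.card F ^ m := by
    calc 4 = 2 ^ 2 := by norm_num
      _ ≤ 2 ^ m := Nat.pow_le_pow_right (by norm_num) (by omega)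
      _ ≤ _ := Nat.pow_le_pow_left hq2 m
  have ha2 : a ≠ 2 := by have := h.a5; omega
  have hb2 : b ≠ 2 := by have := h.b5; omega
  have ha := minus_core m hm c d hab h.pa ha2 h.da h.ma
  have hb := minus_core m hm c d hab h.pb hb2 h.db h.mb
  rcases Nat.even_or_odd m with he | ho
  · obtain ⟨K, i1, i2, hK, hM⟩ := Cfsg.Agent.H522.FpfEmb.minus_psl F he (by omega) c d hab
    refine not_two_via_psl2 (K := K) (by rw [hK]; exact hqm) (a := a) (b := b)
      ⟨h.pa, h.pb, h.a5, h.b5, h.ne, Cfsg.Agent.H97.FpfO.dvd_psl2 (K := K) hK (by omega) h.pa ha2 ha.1, Cfsg.Agent.H97.FpfO.dvd_psl2 (K := K) hK (by omega) h.pb hb2 hb.1,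
        hM h.ma, hM h.mb⟩ (hK ▸ ha.1) (hK ▸ hb.1)
  · obtain ⟨K, i1, i2, hK, hM⟩ := Cfsg.Agent.H522.FpfEmb.minus_psu F ho (by omega) (by omega) c d hab
    refine not_two_psu (F := K) (n := m) (q := Fintype.card F) hK (by omega) (by omega) ?_ (a := a) (b := b)
      ⟨h.pa, h.pb, h.a5, h.b5, h.ne, dvd_psu hK (by omega) (by omega) ho h.pa ha.1 ha.2,
        dvd_psu hK (by omega) (by omega) ho h.pb hb.1 hb.2, hM h.ma, hM h.mb⟩
    rintro ⟨h1, -⟩
    rw [h1] at ho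
    exact absurd ho (by decide)

/-- **`PΩ^+_{2m}(q)`** -/
theorem not_two_plus (m : ℕ) (hm : 4 ≤ m) {a b : ℕ}
    (h : TwoMay (Cfsg.POmega F (Cfsg.quadFormPlus m F)) a b) : False := by
  have hs : IsSimpleGroup (Cfsg.POmega F (Cfsg.quadFormPlus m F)) := S0296.result m hm
  have hq2 : 2 ≤ Fintype.card F := Fintype.one_lt_card
  have hNF : Nat.card F = Fintype.card F := Nat.card_eq_fintype_card
  have ha2 : a ≠ 2 := by have := h.a5; omega
  have hb2 : b ≠ 2 := by have := h.b5; omega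
  by_cases h42 : m = 4 ∧ Fintype.card F = 2
  · obtain ⟨rfl, hF⟩ := h42
    have key : ∀ r : ℕ, r.Prime → 5 ≤ r → r ∣ Nat.card (Cfsg.POmega F (Cfsg.quadFormPlus 4 F)) →
        May r (Cfsg.POmega F (Cfsg.quadFormPlus 4 F)) → r = 5 := by
      intro r hr hr5 hd hM
      by_contra hne
      refine Cfsg.Agent.H522.FpfRowPlus.not_may (by omega) hs hr (by omega) hd (Or.inl ?_)
        (fun _ _ => ⟨by omega, hne⟩) hM
      rw [hNF, hF]
      intro h
      norm_num at h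
      have h1 : r ∣ 3 ^ 2 := h
      have := (Nat.prime_dvd_prime_iff_eq hr Nat.prime_three).1 (hr.dvd_of_dvd_pow h1)
      omega
    exact h.ne ((key a h.pa h.a5 h.da h.ma).trans (key b h.pb h.b5 h.db h.mb).symm)
  have key : ∀ r : ℕ, r.Prime → 5 ≤ r → r ∣ Nat.card (Cfsg.POmega F (Cfsg.quadFormPlus m F)) →
      May r (Cfsg.POmega F (Cfsg.quadFormPlus m F)) → r ∣ Fintype.card F ^ (m - 1) + 1 ∧ ¬ r ∣ Fintype.card F ^ 2 - 1 := by
    intro r hr hr5 hd hM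
    by_contra hcon
    refine Cfsg.Agent.H522.FpfRowPlus.not_may hm hs hr (by omega) hd ?_ (fun h1 h2 => absurd ⟨h1, h2⟩ h42) hM
    rw [hNF]
    tauto
  have ha := key a h.pa h.a5 h.da h.ma
  have hb := key b h.pb h.b5 h.db h.mb
  rcases Nat.even_or_odd m with he | ho
  · obtain ⟨K, i1, i2, hK, hM⟩ := Cfsg.Agent.H522.FpfEmb.plus_psu (F := F) he hm h42
    have ho' : Odd (m - 1) := Nat.Even.sub_odd (by omega) he odd_one
    refine not_two_psu (F := K) (n := m - 1) (q := Fintype.card F) hK (by omega) (by omega) ?_ (a := a) (b := b)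
      ⟨h.pa, h.pb, h.a5, h.b5, h.ne, dvd_psu hK (by omega) (by omega) ho' h.pa ha.1 ha.2,
        dvd_psu hK (by omega) (by omega) ho' h.pb hb.1 hb.2, hM h.ma, hM h.mb⟩
    rintro ⟨h1, -⟩
    rw [h1] at ho'
    exact absurd ho' (by decide)
  · obtain ⟨K, i1, i2, hK, hM⟩ := Cfsg.Agent.H522.FpfEmb.plus_psl (F := F) ho (by omega)
    have hK4 : 4 ≤ Fintype.card K := by
      rw [hK]
      calc 4 = 2 ^ 2 := by norm_num
        _ ≤ 2 ^ (m - 1) := Nat.pow_le_pow_right (by norm_num) (by omega)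
        _ ≤ _ := Nat.pow_le_pow_left hq2 _
    refine not_two_via_psl2 (K := K) hK4 (a := a) (b := b)
      ⟨h.pa, h.pb, h.a5, h.b5, h.ne, Cfsg.Agent.H97.FpfO.dvd_psl2 (K := K) hK ?_ h.pa ha2 ha.1, Cfsg.Agent.H97.FpfO.dvd_psl2 (K := K) hK ?_ h.pb hb2 hb.1,
        hM h.ma, hM h.mb⟩ (hK ▸ ha.1) (hK ▸ hb.1)
    · have := hK ▸ hK4; omega
    · have := hK ▸ hK4; omega

end Cfsg.Agent.H425.NR
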