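import Mathlib
import Cfsg.Agent.H80.Fpf.Crit

/-!
# Unipotent elements: the characteristic is not a fixed point free prime (helper425, for S3440)

`card_dvd` : a cyclic `l`-subgroup of `GL_n(F)`, `l = char F`, has order dividing `l ^ b` if `n ≤ l ^ b`.
`not_may_of_lin` : `¬ May l S` for `S` a quotient of a matrix group `G` by a kernel of order prime to `l`,
if `l ^ (b + 1)` divides `|G|`.
-/

set_option autoImplicit false
set_option linter.style.haveILetI false

namespace Cfsg.Agent.H425.NR

open Cfsg.Agent.H80.Fpf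

variable {F : Type*} [Field F] {l n : ℕ} [hl : Fact l.Prime] [CharP F l]

theorem uni_pow (M : Matrix (Fin n) (Fin n) F) {k b : ℕ} (hM : M ^ l ^ k = 1) (hb : n ≤ l ^ b) : M ^ l ^ b = 1 := by
  rcases Nat.eq_zero_or_pos n with rfl | hn
  · exact Subsingleton.elim _ _
  haveI : NeZero n := ⟨hn.ne'⟩
  haveI : CharP (Matrix (Fin n) (Fin n) F) l := inferInstance
  have hc : Commute M 1 := Commute.one_right M
  have h1 : (M - 1) ^ l ^ k = 0 := by
    rw [sub_pow_char_pow_of_commute (p := l) (n := k) hc, hM, one_pow, sub_self]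
  have h2 : (M - 1) ^ n = 0 := by
    have h3 : IsNilpotent (Matrix.toLin' (M - 1)) := by
      refine ⟨l ^ k, ?_⟩
      rw [← Matrix.toLin'_pow, h1, map_zero]
    have h4 := h3.charpoly_eq_X_pow_finrank
    have h5 := LinearMap.aeval_self_charpoly (Matrix.toLin' (M - 1))
    rw [h4, Module.finrank_fin_fun, map_pow, Polynomial.aeval_X, ← Matrix.toLin'_pow] at h5
    exact (LinearEquiv.map_eq_zero_iff _).1 h5
  have h6 : (M - 1) ^ l ^ b = 0 := pow_eq_zero_of_le hb h2
  rw [sub_pow_char_pow_of_commute (p := l) (n := b) hc, one_pow] at h6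
  exact sub_eq_zero.1 h6

theorem card_dvd {G : Type*} [Group G] [Finite G] {f : G →* Matrix (Fin n) (Fin n) F} (hf : Function.Injective f)
    {b : ℕ} (hb : n ≤ l ^ b) (P : Subgroup G) (hP : IsPGroup l P) (hc : IsCyclic P) : Nat.card P ∣ l ^ b := by
  obtain ⟨g, hg⟩ := hc.exists_generator
  have h1 : orderOf g = Nat.card P := orderOf_eq_card_of_forall_mem_zpowers hg
  rw [← h1]
  apply orderOf_dvd_of_pow_eq_one
  obtain ⟨k, hk⟩ := hP g
  apply Subtype.ext
  apply hf
  have h2 : f (g : G) ^ l ^ k = 1 := by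
    rw [← map_pow, ← Subgroup.coe_pow, hk, Subgroup.coe_one, map_one]
  rw [Subgroup.coe_pow, map_pow, uni_pow _ h2 hb, Subgroup.coe_one, map_one]

/-- **The characteristic is excluded.** -/
theorem not_may_of_lin {G : Type*} [Group G] [Finite G] {f : G →* Matrix (Fin n) (Fin n) F} (hf : Function.Injective f)
    {S : Type*} [Group S] [Finite S] (π : G →* S) (hk : ¬ l ∣ Nat.card π.ker) (hl2 : l ≠ 2) {b : ℕ} (hb : n ≤ l ^ b)
    (hG : l ^ (b + 1) ∣ Nat.card G) : ¬ May l S := by
  intro hM
  let P : Sylow l G := default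
  have hinj : Function.Injective (π.comp (P : Subgroup G).subtype) := by
    rw [injective_iff_map_eq_one]
    intro x hx
    have h1 : (x : G) ∈ π.ker := hx
    obtain ⟨k, hk'⟩ := (IsPGroup.iff_orderOf.1 P.isPGroup') x
    have h2 : orderOf (x : G) ∣ Nat.card π.ker := Subgroup.orderOf_dvd_natCard _ h1
    rw [Subgroup.orderOf_coe, hk'] at h2
    rcases Nat.eq_zero_or_pos k with rfl | h3
    · rw [pow_zero] at hk'
      exact orderOf_eq_one_iff.1 hk'
    · exact absurd ((dvd_pow_self l h3.ne').trans h2) hk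
  have hcyc : IsCyclic ((P : Subgroup G).map π) :=
    hM.isCyclic hl.out hl2 _ (P.isPGroup'.map π)
  have hcyc' : IsCyclic (P : Subgroup G) := by
    refine isCyclic_of_injective ((π.comp (P : Subgroup G).subtype).codRestrict ((P : Subgroup G).map π) ?_) ?_
    · intro x
      exact ⟨x, x.2, rfl⟩
    · intro x y hxy
      exact hinj (congrArg Subtype.val hxy)
  have h1 := card_dvd hf hb (P : Subgroup G) P.isPGroup' hcyc'
  have h2 : l ^ (b + 1) ∣ Nat.card (P : Subgroup G) := P.pow_dvd_card_of_pow_dvd_card hG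
  exact absurd (Nat.le_of_dvd (pow_pos hl.out.pos _) (h2.trans h1))
    (not_le.2 (Nat.pow_lt_pow_right hl.out.one_lt (Nat.lt_succ_self b)))

end Cfsg.Agent.H425.NR
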