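import Cfsg.Agent.H425.NR.Pair
import Cfsg.Agent.H425.NR.Uni

/-!
# `PSU_n(q)`: no two primes `≥ 5` acting fixed point freely, except possibly `PSU₆(2)` (helper425, for S3440)
-/

set_option autoImplicit false
set_option linter.style.haveILetI false
set_option linter.unusedSectionVars false

namespace Cfsg.Agent.H425.NR

open Cfsg Cfsg.Agent.LieClassical Cfsg.Agent.LieClassical.HermBasic Cfsg.Agent.H948.UProd
open Cfsg.Agent.H80.Fpf Cfsg.Agent.H700.FpfPsu

variable {F : Type} [Field F] [Fintype F] {q n : ℕ}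

theorem tri_ge (hn : 3 ≤ n) : n ≤ n * (n - 1) / 2 := by
  obtain ⟨k, rfl⟩ : ∃ k, n = k + 3 := ⟨n - 3, by omega⟩
  rw [Nat.le_div_iff_mul_le (by norm_num)]
  show (k + 3) * 2 ≤ (k + 3) * (k + 3 - 1)
  exact Nat.mul_le_mul_left _ (by omega)

/-- the characteristic -/
theorem not_may_char_psu (hF : Fintype.card F = q ^ 2) (hn : 3 ≤ n) {l : ℕ} [Fact l.Prime] [CharP F l] (hl2 : l ≠ 2) :
    ¬ May l (PSU n F q) := by
  have hlp : l.Prime := Fact.out
  have hlq : l ∣ q := char_dvd hF l
  have hl1 : ¬ l ∣ q + 1 := by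
    intro h1
    have h2 : l ∣ 1 := (Nat.dvd_add_right hlq).1 h1
    exact hlp.one_lt.ne' (Nat.dvd_one.1 h2)
  have hc := Cfsg.Agent.S0279.result hF n hn
  let f : Cfsg.SU n F q →* Matrix (Fin n) (Fin n) F :=
    { toFun := fun g => ((g : Matrix.SpecialLinearGroup (Fin n) F) : Matrix (Fin n) (Fin n) F)
      map_one' := rfl
      map_mul' := fun g h => rfl }
  have hf : Function.Injective f := fun g h hgh => Subtype.ext (Subtype.ext hgh)
  have hN := tri_ge hn
  refine not_may_of_lin hf (QuotientGroup.mk' (Subgroup.center (Cfsg.SU n F q))) ?_ hl2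
    (b := n * (n - 1) / 2 - 1) ?_ ?_
  · rw [QuotientGroup.ker_mk', hc]
    exact fun h => hl1 (h.trans (Nat.gcd_dvd_right _ _))
  · have h3 : 3 ≤ l := by
      have := hlp.two_le
      omega
    calc n ≤ 3 ^ (n - 1) := by
          obtain ⟨k, rfl⟩ : ∃ k, n = k + 1 := ⟨n - 1, by omega⟩
          rw [Nat.add_sub_cancel]
          exact Nat.lt_pow_self (by norm_num)
      _ ≤ l ^ (n - 1) := Nat.pow_le_pow_left h3 _
      _ ≤ l ^ (n * (n - 1) / 2 - 1) := Nat.pow_le_pow_right (by omega) (by omega)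
  · have h1 := Cfsg.Agent.S0280.result hF n (by omega)
    have h2 : Nat.card (Cfsg.SU n F q) = Nat.gcd n (q + 1) * Nat.card (PSU n F q) := by
      rw [← hc, mul_comm]
      exact Subgroup.card_eq_card_quotient_mul_card_subgroup _
    rw [show n * (n - 1) / 2 - 1 + 1 = n * (n - 1) / 2 by omega, h2]
    have h3 : l ^ (n * (n - 1) / 2) ∣ (q + 1) * (Nat.gcd n (q + 1) * Nat.card (PSU n F q)) := by
      have h4 : (q + 1) * (Nat.gcd n (q + 1) * Nat.card (PSU n F q)) =
        Nat.gcd n (q + 1) * ((q + 1) * Nat.card (PSU n F q)) := by ring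
      rw [h4, h1]
      exact (pow_dvd_pow_of_dvd hlq _).mul_right _
    exact (Nat.Coprime.pow_left _ ((Nat.Prime.coprime_iff_not_dvd hlp).2 hl1)).dvd_of_dvd_mul_left h3

/-- **`PSU_n(q)`** -/
theorem out_psu' (hF : Fintype.card F = q ^ 2) (hn : 3 ≤ n) (h3 : ¬ (n = 3 ∧ q = 2)) {a b : ℕ}
    (h : TwoMay (PSU n F q) a b) : (n = 6 ∧ q = 2) ∧ PairOut (PSU n F q) a b := by
  classical
  obtain ⟨l, k, hl, hchar, hk, hk0⟩ := exists_prime_pow hF
  have := Fact.mk hl
  have hsimp : IsSimpleGroup (PSU n F q) := Cfsg.Agent.S0283.result hF n hn h3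
  have hlq := char_dvd hF l
  have hnl : ∀ r : ℕ, 5 ≤ r → May r (PSU n F q) → r ≠ l := by
    rintro r h5 hM rfl
    exact not_may_char_psu hF hn (by omega) hM
  by_cases hexc : (n, q) ∉ ({(4, 2), (4, 3), (6, 2)} : Set (ℕ × ℕ))
  · exfalso
    obtain ⟨j, hj, hj3, hjn⟩ : ∃ j, Odd j ∧ 3 ≤ j ∧ (n = j ∨ n = j + 1) := by
      rcases Nat.even_or_odd n with h | h
      · exact ⟨n - 1, Nat.Even.sub_odd (by omega) h odd_one, by obtain ⟨m, rfl⟩ := h; omega, by omega⟩
      · exact ⟨n, h, hn, Or.inl rfl⟩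
    have key : ∀ r : ℕ, r.Prime → 5 ≤ r → r ∣ Nat.card (PSU n F q) → May r (PSU n F q) →
        orderOf (-(q : ZMod r)) = j := by
      intro r hr h5 hd hM
      have hmult : Good l r ∨ ∃ m, MultDvd (PSU n F q) m ∧ ¬ l ∣ m := by
        refine Or.inr ⟨_, multDvd hF hn h3 hexc, fun h => ?_⟩
        have h1 : l ∣ q + 1 := h.trans (Nat.gcd_dvd_right _ _)
        have h2 : l ∣ 1 := (Nat.dvd_add_right hlq).1 h1
        exact hl.one_lt.ne' (Nat.dvd_one.1 h2)
      rcases not_may_cases hF hn h3 hr (by omega) (hnl r h5 hM) hd hmult with h | ⟨j', hj', hj3', hjn', h⟩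
      · exact absurd hM h
      · obtain rfl : j' = j := by
          rcases hj' with ⟨a, ha⟩
          rcases hj with ⟨b, hb⟩
          omega
        exact h
    have hoa := key a h.pa h.a5 h.da h.ma
    have hob := key b h.pb h.b5 h.db h.mb
    rcases lt_or_gt_of_ne h.ne with h1 | h1
    · exact not_may_small hF hn h3 hexc h.pa h.pb h1 hj hj3 hjn hoa hob h.ma
    · exact not_may_small hF hn h3 hexc h.pb h.pa h1 hj hj3 hjn hob hoa h.mb
  · rw [not_not] at hexc
    rcases hexc with h' | h' | h'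
    · -- `(4, 2)`
      exfalso
      rw [Prod.mk.injEq] at h'
      obtain ⟨rfl, rfl⟩ := h'
      have key : ∀ r : ℕ, r.Prime → 5 ≤ r → r ∣ Nat.card (PSU 4 F 2) → r = 5 := by
        intro r hr h5 hd
        rcases prime_dvd_card_PSU hF (by omega) hr hd with h | ⟨i, hi, h⟩
        · have := (Nat.prime_dvd_prime_iff_eq hr Nat.prime_two).1 h; omega
        · have hdv : r ∣ 3 * 5 * 3 := by
            interval_cases i <;> exact h.trans (by decide)
          rcases (Nat.Prime.dvd_mul hr).1 hdv with h | h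
          · rcases (Nat.Prime.dvd_mul hr).1 h with h | h
            · have := (Nat.prime_dvd_prime_iff_eq hr Nat.prime_three).1 h; omega
            · exact (Nat.prime_dvd_prime_iff_eq hr Nat.prime_five).1 h
          · have := (Nat.prime_dvd_prime_iff_eq hr Nat.prime_three).1 h; omega
      exact h.ne ((key a h.pa h.a5 h.da).trans (key b h.pb h.b5 h.db).symm)
    · -- `(4, 3)`
      exfalso
      rw [Prod.mk.injEq] at h'
      obtain ⟨rfl, rfl⟩ := h'
      have hl3 : l = 3 := ((Nat.prime_dvd_prime_iff_eq hl Nat.prime_three).1 hlq)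
      subst hl3
      have key : ∀ r : ℕ, r.Prime → 5 ≤ r → r ∣ Nat.card (PSU 4 F 3) → May r (PSU 4 F 3) → r = 7 := by
        intro r hr h5 hd hM
        rcases prime_dvd_card_PSU hF (by omega) hr hd with h | ⟨i, hi, h⟩
        · have := (Nat.prime_dvd_prime_iff_eq hr Nat.prime_three).1 h; omega
        · have hdv : r ∣ 2 ^ 7 * 7 * 5 := by
            interval_cases i <;> exact h.trans (by decide)
          rcases (Nat.Prime.dvd_mul hr).1 hdv with h | h
          · rcases (Nat.Prime.dvd_mul hr).1 h with h | h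
            · have := (Nat.prime_dvd_prime_iff_eq hr Nat.prime_two).1 (hr.dvd_of_dvd_pow h); omega
            · exact (Nat.prime_dvd_prime_iff_eq hr (by norm_num)).1 h
          · exfalso
            obtain rfl : r = 5 := (Nat.prime_dvd_prime_iff_eq hr Nat.prime_five).1 h
            exact not_may_par hF hn (k := 2) (by omega) (by omega) hr (by norm_num) (l := 3) (by norm_num) (by norm_num)
              (Or.inl (good_of_odd Nat.prime_three (by norm_num) hr (by norm_num))) hM
      exact h.ne ((key a h.pa h.a5 h.da h.ma).trans (key b h.pb h.b5 h.db h.mb).symm)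
    · -- `(6, 2)`
      rw [Set.mem_singleton_iff, Prod.mk.injEq] at h'
      obtain ⟨rfl, rfl⟩ := h'
      have hl2 : l = 2 := ((Nat.prime_dvd_prime_iff_eq hl Nat.prime_two).1 hlq)
      subst hl2
      have key : ∀ r : ℕ, r.Prime → 5 ≤ r → r ∣ Nat.card (PSU 6 F 2) → May r (PSU 6 F 2) → r = 5 ∨ r = 11 := by
        intro r hr h5 hd hM
        rcases prime_dvd_card_PSU hF (by omega) hr hd with h | ⟨i, hi, h⟩
        · have := (Nat.prime_dvd_prime_iff_eq hr Nat.prime_two).1 h; omega
        · have hdv : r ∣ 3 ^ 2 * 7 * (5 * 11) := by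
            interval_cases i <;> exact h.trans (by decide)
          rcases (Nat.Prime.dvd_mul hr).1 hdv with h | h
          · rcases (Nat.Prime.dvd_mul hr).1 h with h | h
            · have := (Nat.prime_dvd_prime_iff_eq hr Nat.prime_three).1 (hr.dvd_of_dvd_pow h); omega
            · exfalso
              obtain rfl : r = 7 := (Nat.prime_dvd_prime_iff_eq hr (by norm_num)).1 h
              exact not_may_par hF hn (k := 3) (by omega) (by omega) hr (by norm_num) (l := 2) (by norm_num) (by norm_num)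
                (Or.inl (good_two_of_dvd Nat.prime_three (by norm_num) (by norm_num))) hM
          · rcases (Nat.Prime.dvd_mul hr).1 h with h | h
            · exact Or.inl ((Nat.prime_dvd_prime_iff_eq hr Nat.prime_five).1 h)
            · exact Or.inr ((Nat.prime_dvd_prime_iff_eq hr (by norm_num)).1 h)
      have hcard : Nat.card (PSU 6 F 2) ∣ 2 ^ 15 * (3 * 3 * 9 * 15 * 33 * 63) := by
        have h1 := Cfsg.Agent.S0280.result hF 6 (by omega)
        have h2 : 2 ^ (6 * (6 - 1) / 2) * ∏ i ∈ Finset.range 6, (if Even i then 2 ^ (i + 1) + 1 else 2 ^ (i + 1) - 1) =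
          2 ^ 15 * (3 * 3 * 9 * 15 * 33 * 63) := by decide
        rw [h2] at h1
        rw [← h1]
        exact Dvd.intro_left _ (by rw [mul_assoc])
      have hsq : ∀ r : ℕ, r = 5 ∨ r = 11 → ∀ y : PSU 6 F 2, orderOf y ≠ r ^ 2 := by
        intro r hr
        apply order_ne_of_card
        intro h1
        have h2 := h1.trans hcard
        rcases hr with rfl | rfl <;> norm_num at h2
      have ka := key a h.pa h.a5 h.da h.ma
      have kb := key b h.pb h.b5 h.db h.mb
      have hne := h.ne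
      refine ⟨⟨rfl, rfl⟩, Or.inr (Or.inr ⟨hsq a ka, hsq b kb, ?_⟩)⟩
      rcases ka with rfl | rfl <;> rcases kb with rfl | rfl
      · exact absurd rfl hne
      · exact Or.inr (Or.inl ⟨rfl, rfl⟩)
      · exact Or.inr (Or.inr (Or.inl ⟨rfl, rfl⟩))
      · exact absurd rfl hne

theorem out_psu (hF : Fintype.card F = q ^ 2) (hn : 3 ≤ n) (h3 : ¬ (n = 3 ∧ q = 2)) {a b : ℕ}
    (h : TwoMay (PSU n F q) a b) : PairOut (PSU n F q) a b := (out_psu' hF hn h3 h).2

theorem not_two_psu (hF : Fintype.card F = q ^ 2) (hn : 3 ≤ n) (h3 : ¬ (n = 3 ∧ q = 2)) (h6 : ¬ (n = 6 ∧ q = 2))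
    {a b : ℕ} (h : TwoMay (PSU n F q) a b) : False := h6 (out_psu' hF hn h3 h).1

end Cfsg.Agent.H425.NR
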