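import Cfsg.Agent.H425.NR.LMain
import Cfsg.Agent.H425.NR.PairAll
import Cfsg.Agent.H377.NR.Frame
import Cfsg.Agent.H389.NR.StrongDvd
import Cfsg.Agent.H500.Su3.Spor
import Cfsg.Agent.S3585
import Cfsg.Agent.S3586

/-!
# Groups isospectral to `PSL_4(q)`, `PSU_4(q)`, `q = p ^ k`, `p ≥ 5` (helper425, for S3440)

`nilRad_four_of` : solvable normal subgroups of a nonsolvable group isospectral to `PSL_4(q)` or `PSU_4(q)` are nilpotent.
-/

set_option autoImplicit false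
set_option linter.unusedSectionVars false
set_option linter.style.haveILetI false

namespace Cfsg.Agent.H425.NR

open Subgroup
open Cfsg.Agent.H80.Fpf Cfsg.Agent.H377.NR Cfsg.Agent.H389.NR Cfsg.Agent.H402.Rec Cfsg.Agent.H403
open Cfsg.Agent.H414.Comp (IsComp)

universe u v w

theorem isSporadic_congr {A : Type u} {B : Type v} [Group A] [Group B] (hs : IsSimpleGroup A) (hsB : IsSimpleGroup B)
    (hc : Nat.card A = Nat.card B) (h : Cfsg.IsSporadic B) : Cfsg.IsSporadic A := by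
  simp only [Cfsg.IsSporadic, Cfsg.IsM11, Cfsg.IsM12, Cfsg.IsM22, Cfsg.IsM23, Cfsg.IsM24, Cfsg.IsJ1, Cfsg.IsJ2,
    Cfsg.IsJ3, Cfsg.IsJ4, Cfsg.IsCo1, Cfsg.IsCo2, Cfsg.IsCo3, Cfsg.IsFi22, Cfsg.IsFi23, Cfsg.IsFi24', Cfsg.IsHS,
    Cfsg.IsMcL, Cfsg.IsHe, Cfsg.IsRu, Cfsg.IsSuz, Cfsg.IsON, Cfsg.IsHN, Cfsg.IsLy, Cfsg.IsTh, Cfsg.IsB, Cfsg.IsM,
    hs, hsB, true_and] at h ⊢
  rw [hc]
  exact h

/-- `S ≤ G ⧸ K` as a composition factor of `G` -/
theorem exists_sec {G : Type u} [Group G] (K : Subgroup G) [K.Normal] (S : Subgroup (G ⧸ K)) [S.Normal] :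
    ∃ (H : Subgroup G) (N : Subgroup ↥H) (_ : N.Normal), H.IsSubnormal ∧ Nonempty ((↥H ⧸ N) ≃* S) := by
  let q : S.comap (QuotientGroup.mk' K) →* S := (QuotientGroup.mk' K).subgroupComap S
  have hq : Function.Surjective q := by
    rintro ⟨t, ht⟩
    obtain ⟨g, rfl⟩ := QuotientGroup.mk'_surjective K t
    exact ⟨⟨g, ht⟩, rfl⟩
  exact ⟨S.comap (QuotientGroup.mk' K), q.ker, inferInstance, (inferInstance : (S.comap (QuotientGroup.mk' K)).Normal).isSubnormal,
    ⟨QuotientGroup.quotientKerEquivOfSurjective q hq⟩⟩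

/-- **The theorem**, with the classification facts as hypotheses. -/
theorem nilRad_four_of (known : ∀ (T : Type) [Group T] [Finite T] [IsSimpleGroup T], Cfsg.IsKnownSimple' T)
    (hrow : ∀ (T : Type) [Group T] [Finite T] [IsSimpleGroup T], Row T)
    (hIB : ∀ {X : Type u} [Group X] [Finite X] (S : Subgroup X) [S.Normal], IsSimpleGroup S → ¬ IsMulCommutative S →
      ∀ {r s : ℕ}, r.Prime → s.Prime → r ∣ S.index → ¬ r ∣ Nat.card S → s ∣ Nat.card S →
      (¬ ∃ x : X, orderOf x = r * s) → s % r = 1)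
    {G : Type u} [Group G] [Finite G] (hG : ¬ Group.IsSolvable G) {F : Type v} [Field F] [Fintype F] {L : Type w} [Group L]
    [Finite L] {e : Bool} {p k q : ℕ} (hp : p.Prime) (h5 : 5 ≤ p) (hq : q = p ^ k)
    (hF : Fintype.card F = q ^ (cond e 0 1 + 1)) (hL : IsL L e 4 q F)
    (hr : Set.range (orderOf : G → ℕ) = Set.range (orderOf : L → ℕ)) : NilRad G := by
  have hf : FactL e p q G := (factL hp h5 hq hL hF).of_range hr
  have hq2 : q ≠ 2 := by
    have h1 := hf.p_le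
    omega
  -- the hypotheses of S3585, S3586
  have hL1 : (¬ (4 = 4 ∧ Fintype.card F = 2) ∧ Nonempty (L ≃* Matrix.ProjectiveSpecialLinearGroup (Fin 4) F)) ∨
      (∃ q : ℕ, ¬ (4 = 4 ∧ q = 2) ∧ Fintype.card F = q ^ 2 ∧ Nonempty (L ≃* Cfsg.PSU 4 F q)) := by
    cases e
    · exact Or.inr ⟨q, fun h => hq2 h.2, hF, hL⟩
    · refine Or.inl ⟨fun h => hq2 ?_, hL⟩
      rw [h.2] at hF
      simpa using hF.symm
  have hL2 : Nonempty (L ≃* Matrix.ProjectiveSpecialLinearGroup (Fin 4) F) ∨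
      (∃ q : ℕ, ¬ (4 = 5 ∧ q = 2) ∧ Fintype.card F = q ^ 2 ∧ Nonempty (L ≃* Cfsg.PSU 4 F q)) := by
    rcases hL1 with h | ⟨q, -, h1, h2⟩
    · exact Or.inl h.2
    · exact Or.inr ⟨q, fun h => absurd h.1 (by norm_num), h1, h2⟩
  -- an odd prime not adjacent to 2
  obtain ⟨r, hrp, hrd⟩ := Nat.exists_prime_and_dvd hf.one_lt_Q3.ne'
  obtain ⟨s, hs, hsd⟩ := Nat.exists_prime_and_dvd hf.one_lt_R4.ne'
  have h2 : ∃ p, NA G 2 p := by
    by_cases h4 : M1 e q % 4 = 0
    · have h6 := hf.five_le_four hs hsd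
      exact ⟨s, NA.symm ⟨hf.pi_four hs hsd, pi_two hG, by omega, hf.not_adj_four_two h4 hs hsd⟩⟩
    · have h6 := hf.five_le_three hrp hrd
      exact ⟨r, NA.symm ⟨hf.pi_three hrp hrd, pi_two hG, by omega, hf.not_adj_three_two h4 hrp hrd⟩⟩
  refine frame hG h2 ?_
  intro K hKn hKs S hSn hS hSc hcoc
  have hna := not_comm_of_isComp hS
  have hS' := hS.simple
  haveI : Small.{0} S := inferInstance
  let E : Shrink.{0} S ≃* S := Shrink.mulEquiv
  haveI : Finite (Shrink.{0} S) := Finite.of_equiv S (equivShrink S)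
  haveI : IsSimpleGroup (Shrink.{0} S) := E.isSimpleGroup
  -- `S` is neither alternating nor sporadic
  obtain ⟨H, N, hN, hH, ⟨f⟩⟩ := exists_sec K S
  have hsN : IsSimpleGroup (↥H ⧸ N) := f.isSimpleGroup
  have hnaN : ¬ IsMulCommutative (↥H ⧸ N) := by
    intro h
    apply hna
    refine ⟨⟨fun a b => ?_⟩⟩
    apply f.symm.injective
    rw [map_mul, map_mul]
    exact h.is_comm.comm _ _
  have hnA : ¬ Cfsg.IsAlternating (Shrink.{0} S) := by
    rintro ⟨n, -, ⟨g⟩⟩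
    exact Cfsg.Agent.S3585.result (F := F) (n := 4) (by norm_num) hL1 hr H hH N hsN hnaN n
      ⟨f.trans (E.symm.trans g)⟩
  have hnS : ¬ Cfsg.IsSporadicGroup (Shrink.{0} S) := by
    intro h
    have h1 := Cfsg.Agent.H500.Su3.isSporadic_of (S := Shrink.{0} S) inferInstance h
    exact (Cfsg.Agent.S3586.result (F := F) (n := 4) (by norm_num) hL2 hr H hH N hsN hnaN).1
      (isSporadic_congr hsN inferInstance (Nat.card_congr (f.trans E.symm).toEquiv) h1)
  exact fine_four hf K hKs S hS' hna hcoc (fun h1 h2 h3 h4 h5 h6 => hIB S hS' hna h1 h2 h3 h4 h5 h6)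
    (Row.of_equiv E (hrow (Shrink.{0} S)))
    (fun a b hT => (out_all (known (Shrink.{0} S)) hnA hnS (hT.of_equiv E.symm)).of_equiv E)

/-- `PSL_4(q)` -/
theorem nilRad_l4_of (known : ∀ (T : Type) [Group T] [Finite T] [IsSimpleGroup T], Cfsg.IsKnownSimple' T)
    (hrow : ∀ (T : Type) [Group T] [Finite T] [IsSimpleGroup T], Row T)
    (hIB : ∀ {X : Type u} [Group X] [Finite X] (S : Subgroup X) [S.Normal], IsSimpleGroup S → ¬ IsMulCommutative S →
      ∀ {r s : ℕ}, r.Prime → s.Prime → r ∣ S.index → ¬ r ∣ Nat.card S → s ∣ Nat.card S →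
      (¬ ∃ x : X, orderOf x = r * s) → s % r = 1)
    {G : Type u} [Group G] [Finite G] (hG : ¬ Group.IsSolvable G) {F : Type v} [Field F] [Fintype F] {L : Type w} [Group L]
    [Finite L] {p : ℕ} [CharP F p] (h5 : 5 ≤ p) (e : Nonempty (L ≃* Matrix.ProjectiveSpecialLinearGroup (Fin 4) F))
    (hr : Set.range (orderOf : G → ℕ) = Set.range (orderOf : L → ℕ)) : NilRad G := by
  obtain ⟨n, hpp, hn⟩ := FiniteField.card F p
  exact nilRad_four_of known hrow hIB hG (e := true) hpp h5 hn (by simp) e hr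

/-- `PSU_4(q)` -/
theorem nilRad_u4_of (known : ∀ (T : Type) [Group T] [Finite T] [IsSimpleGroup T], Cfsg.IsKnownSimple' T)
    (hrow : ∀ (T : Type) [Group T] [Finite T] [IsSimpleGroup T], Row T)
    (hIB : ∀ {X : Type u} [Group X] [Finite X] (S : Subgroup X) [S.Normal], IsSimpleGroup S → ¬ IsMulCommutative S →
      ∀ {r s : ℕ}, r.Prime → s.Prime → r ∣ S.index → ¬ r ∣ Nat.card S → s ∣ Nat.card S →
      (¬ ∃ x : X, orderOf x = r * s) → s % r = 1)
    {G : Type u} [Group G] [Finite G] (hG : ¬ Group.IsSolvable G) {F : Type v} [Field F] [Fintype F] {L : Type w} [Group L]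
    [Finite L] {q : ℕ} (hq : Fintype.card F = q ^ 2) (h2 : q % 2 = 1) (h3 : ¬ 3 ∣ q)
    (e : Nonempty (L ≃* Cfsg.PSU 4 F q))
    (hr : Set.range (orderOf : G → ℕ) = Set.range (orderOf : L → ℕ)) : NilRad G := by
  obtain ⟨p, hp⟩ := CharP.exists F
  obtain ⟨n, hpp, hn⟩ := FiniteField.card F p
  -- `q` is a power of `p`
  have h4 : q ^ 2 = p ^ (n : ℕ) := by rw [← hq, hn]
  have h6 : q ∣ p ^ (n : ℕ) := h4 ▸ dvd_pow_self q two_ne_zero
  obtain ⟨k, hk, hqk⟩ := (Nat.dvd_prime_pow hpp).1 h6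
  have hk0 : k ≠ 0 := by
    rintro rfl
    rw [pow_zero] at hqk
    rw [hqk, one_pow] at hq
    have := Fintype.one_lt_card (α := F)
    omega
  have hpq : p ∣ q := hqk ▸ dvd_pow_self p hk0
  have h5 : 5 ≤ p := by
    have g1 := hpp.two_le
    have g2 : p ≠ 2 := by
      rintro rfl
      omega
    have g3 : p ≠ 3 := by
      rintro rfl
      exact h3 hpq
    by_contra hcon
    have g4 : p = 4 := by omega
    rw [g4] at hpp
    exact absurd hpp (by decide)
  exact nilRad_four_of known hrow hIB hG (e := false) hpp h5 hqk (by simpa using hq) e hr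

end Cfsg.Agent.H425.NR
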