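import Cfsg.Agent.H425.NR.Pair
import Cfsg.Agent.H425.NR.LFour
import Cfsg.Agent.H389.NR.May
import Cfsg.Agent.H377.NR.Rad
import Cfsg.Agent.H517.Fpf.PslA

/-!
# `Fine K S` for groups isospectral to `PSL_4(q)`, `PSU_4(q)`, `q = p ^ k`, `p ≥ 5` (helper425, for S3440)

* `side` : `r` divides `|K| |G/K : S|` and not `|S|`; cocliques `{r, p, s}` for all prime divisors `s` of `B`.
  Then `B` is a power of a prime `s` and `TwoMay S p s`;
* `not_fpf_of_cover` : the criterion `not_may_of_act_abelian` for one cover; `false_of_mayAll` : `PSL_{m+1}(F)`, `|F|` even;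
* `fine_four` : the theorem.
-/

set_option autoImplicit false
set_option linter.unusedSectionVars false
set_option linter.unusedVariables false
set_option linter.style.haveILetI false

namespace Cfsg.Agent.H425.NR

open Cfsg.Agent.H80.Fpf Cfsg.Agent.H377.NR Cfsg.Agent.H389.NR
open Cfsg.Agent.H389.JSq (Has)

universe u

theorem card_decomp {G : Type u} [Group G] [Finite G] (K : Subgroup G) [K.Normal] (S : Subgroup (G ⧸ K)) :
    Nat.card G = Nat.card K * S.index * Nat.card S := by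
  have h1 := Subgroup.card_eq_card_quotient_mul_card_subgroup K
  have h2 := Subgroup.card_mul_index S
  rw [h1, ← h2]
  ring

/-- elements of order `s ^ 2` of `G` give elements of order `s ^ 2` of `S`, if `s ∤ |K| |G/K : S|` -/
theorem exists_sq {G : Type u} [Group G] [Finite G] (K : Subgroup G) [K.Normal] (S : Subgroup (G ⧸ K)) [S.Normal]
    {s : ℕ} (hs : s.Prime) (hn : ¬ s ∣ Nat.card K * S.index) {g : G} (hg : orderOf g = s ^ 2) :
    ∃ y : S, orderOf y = s ^ 2 := by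
  haveI : Fact s.Prime := ⟨hs⟩
  have hnK : ¬ s ∣ Nat.card K := fun h => hn (h.mul_right _)
  have hni : ¬ s ∣ S.index := fun h => hn (h.mul_left _)
  have h1 : orderOf (QuotientGroup.mk' K g) = s ^ 2 := by
    have h2 : orderOf (QuotientGroup.mk' K g) ∣ s ^ 2 := hg ▸ orderOf_map_dvd (QuotientGroup.mk' K) g
    obtain ⟨i, hi, hi2⟩ := (Nat.dvd_prime_pow hs).1 h2
    have h3 : ¬ i ≤ 1 := by
      intro hi1
      have h4 : QuotientGroup.mk' K (g ^ s) = 1 := by
        rw [map_pow]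
        apply orderOf_dvd_iff_pow_eq_one.1
        rw [hi2]
        exact (pow_dvd_pow s hi1).trans (by rw [pow_one])
      have h5 : g ^ s ∈ K := (QuotientGroup.eq_one_iff (g ^ s)).1 h4
      have h6 : orderOf (g ^ s) = s := by
        rw [orderOf_pow, hg, sq, Nat.gcd_eq_right (Dvd.intro _ rfl), Nat.mul_div_cancel _ hs.pos]
      apply hnK
      rw [← h6, ← Subgroup.orderOf_mk (g ^ s) h5]
      exact orderOf_dvd_natCard _
    have h4 : i = 2 := by omega
    rw [hi2, h4]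
  have h2 : QuotientGroup.mk' K g ∈ S := by
    rw [← QuotientGroup.eq_one_iff]
    apply orderOf_eq_one_iff.1
    have h3 : orderOf (QuotientGroup.mk' S (QuotientGroup.mk' K g)) ∣ s ^ 2 := by
      rw [← h1]
      exact orderOf_map_dvd (QuotientGroup.mk' S) _
    have h4 : orderOf (QuotientGroup.mk' S (QuotientGroup.mk' K g)) ∣ S.index := by
      rw [Subgroup.index_eq_card]
      exact orderOf_dvd_natCard _
    have h5 : (s ^ 2).Coprime S.index := Nat.Coprime.pow_left _ ((Nat.Prime.coprime_iff_not_dvd hs).2 hni)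
    exact Nat.eq_one_of_dvd_coprimes h5 h3 h4
  refine ⟨⟨_, h2⟩, ?_⟩
  rw [Subgroup.orderOf_mk, h1]

/-- **The pair of fixed point free primes.** -/
theorem side {G : Type u} [Group G] [Finite G] (K : Subgroup G) [K.Normal] (hK : Group.IsSolvable K)
    (S : Subgroup (G ⧸ K)) [S.Normal] (hS : IsSimpleGroup S) (hna : ¬ IsMulCommutative S) (hcoc : CocP K S)
    (hIB : ∀ {r s : ℕ}, r.Prime → s.Prime → r ∣ S.index → ¬ r ∣ Nat.card S → s ∣ Nat.card S →
      (¬ ∃ x : G ⧸ K, orderOf x = r * s) → s % r = 1)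
    (hRow : Row S) {p B r : ℕ} (h5 : 5 ≤ p) (hr2 : r ≠ 2) (hB1 : 1 < B)
    (hB5 : ∀ s, s.Prime → s ∣ B → 5 ≤ s) (hrp : NA G r p) (hrs : ∀ s, s.Prime → s ∣ B → NA G r s)
    (hsp : ∀ s, s.Prime → s ∣ B → NA G s p) (hrp1 : ¬ r ∣ p - 1) (hB : ∃ g : G, orderOf g = B)
    (h2 : ¬ Adj G r 2 ∨ ∀ s, s.Prime → s ∣ B → ¬ Adj G s 2) (hrS : ¬ r ∣ Nat.card S) :
    ∃ s j, s.Prime ∧ B = s ^ j ∧ 1 ≤ j ∧ TwoMay S p s ∧ MayAll G S (fun t => t.Prime ∧ t ≠ r ∧ ¬ Has G (r * t)) ∧
      (j = 1 ∨ ∃ y : S, orderOf y = s ^ 2) := by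
  have hr := hrp.1.1
  have hp := hrp.2.1.1
  obtain ⟨s, hs, hsB⟩ := Nat.exists_prime_and_dvd hB1.ne'
  have hcard := card_decomp K S
  have hrKi : r ∣ Nat.card K * S.index := by
    have h1 := hrp.1.2
    rw [hcard, hr.dvd_mul] at h1
    exact h1.resolve_right hrS
  have hall : ∀ t, C3 G r t → ¬ t ∣ Nat.card K * S.index ∧ t ∣ Nat.card S := by
    intro t ht
    have h1 := hcoc r t ht hrKi
    refine ⟨h1, ?_⟩
    have h3 := ht.1.2.1.2
    rw [hcard, ht.1.2.1.1.dvd_mul] at h3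
    exact h3.resolve_left h1
  have hCp : C3 G r p := ⟨hrp, s, hrs s hs hsB, (hsp s hs hsB).symm⟩
  have hCs : ∀ t, t.Prime → t ∣ B → C3 G r t := fun t ht htB => ⟨hrs t ht htB, p, hrp, hsp t ht htB⟩
  -- `r ∣ |K|`
  have hrK : r ∣ Nat.card K := by
    by_contra hrK
    have hri : r ∣ S.index := by
      rw [hr.dvd_mul] at hrKi
      exact hrKi.resolve_left hrK
    have h1 := hIB hr hp hri hrS (hall p hCp).2 (fun hx =>
      hrp.2.2.2 (has_of_surjective (QuotientGroup.mk' K) (QuotientGroup.mk'_surjective K) hx))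
    apply hrp1
    rw [← Nat.modEq_iff_dvd' hp.one_le]
    change 1 % r = p % r
    rw [h1, Nat.mod_eq_of_lt hr.one_lt]
  have hmay : MayAll G S (fun t => t.Prime ∧ t ≠ r ∧ ¬ Has G (r * t)) := by
    rcases h2 with h2 | h2
    · exact may_all' K hK S hS hna hr hrK hrS hp (by omega) (hall p hCp).2
        (fun h => (hall p hCp).1 (h.mul_right _)) hrp.2.2.2 (Or.inr (Or.inr ⟨h5, hr2, h2⟩))
    · refine may_all' K hK S hS hna hr hrK hrS hs (by have := hB5 s hs hsB; omega) (hall s (hCs s hs hsB)).2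
        (fun h => (hall s (hCs s hs hsB)).1 (h.mul_right _)) (hrs s hs hsB).2.2.2 (Or.inr (Or.inl fun h => ?_))
      rw [mul_comm] at h
      exact h2 s hs hsB h
  have hMp : May p S := hmay.may ⟨hp, hrp.2.2.1.symm, hrp.2.2.2⟩
  have hMs : ∀ t, t.Prime → t ∣ B → May t S := fun t ht htB =>
    hmay.may ⟨ht, (hrs t ht htB).2.2.1.symm, (hrs t ht htB).2.2.2⟩
  have hT : ∀ t, t.Prime → t ∣ B → TwoMay S p t := fun t ht htB =>
    ⟨hp, ht, h5, hB5 t ht htB, (hsp t ht htB).2.2.1.symm, (hall p hCp).2, (hall t (hCs t ht htB)).2, hMp, hMs t ht htB⟩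
  -- uniqueness
  have huniq : ∀ {t : ℕ}, t.Prime → t ∣ B → t = s := by
    intro t ht htB
    obtain ⟨a, b, hab⟩ := hRow
    have e1 := hab p hp (by omega) (hT s hs hsB).da hMp
    have e2 := hab s hs (by have := hB5 s hs hsB; omega) (hT s hs hsB).db (hMs s hs hsB)
    have e3 := hab t ht (by have := hB5 t ht htB; omega) (hT t ht htB).db (hMs t ht htB)
    have n1 := (hsp s hs hsB).2.2.1
    have n2 := (hsp t ht htB).2.2.1
    omega
  have hpow := Nat.eq_prime_pow_of_unique_prime_dvd (by omega : B ≠ 0) huniq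
  refine ⟨s, B.primeFactorsList.length, hs, hpow, ?_, hT s hs hsB, hmay, ?_⟩
  · by_contra hcon
    have h0 : B.primeFactorsList.length = 0 := by omega
    rw [h0, pow_zero] at hpow
    omega
  · by_cases hj : B.primeFactorsList.length = 1
    · exact Or.inl hj
    · right
      have hj2 : 2 ≤ B.primeFactorsList.length := by
        by_contra hcon
        have h0 : B.primeFactorsList.length = 0 := by omega
        rw [h0, pow_zero] at hpow
        omega
      obtain ⟨g, hg⟩ := hB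
      have h3 : s ^ 2 ∣ orderOf g := by
        rw [hg, hpow]
        exact pow_dvd_pow s hj2
      have h4 : orderOf (g ^ (orderOf g / s ^ 2)) = s ^ 2 := orderOf_pow_orderOf_div (orderOf_pos g).ne' h3
      exact exists_sq K S hs (hall s (hCs s hs hsB)).1 h4

end Cfsg.Agent.H425.NR

namespace Cfsg.Agent.H425.NR

open Subgroup Matrix Cfsg.Agent.GpLn.Block Cfsg.Agent.GpLn.Elem Cfsg.Agent.H80.Fpf Cfsg.Agent.H517.FpfPsl
open Cfsg.Agent.H389.JSq (Has)
open Cfsg.Agent.H389.NR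

universe u v

theorem not_fpf_of_cover {G : Type u} [Group G] [Finite G] {S : Type v} [Group S] [Finite S] [IsSimpleGroup S]
    {π : G →* S} (hπ : IsCover π) {n : ℕ} (ρ : Representation ℂ G (Fin n → ℂ)) (hn : 0 < n) {r l : ℕ} (hr : r.Prime)
    (hr2 : r ≠ 2) (hl : l.Prime) (hρ : ∀ g : G, orderOf g = r → ∀ v, ρ g v = v → v = 0)
    (hlk : ¬ l ∣ Nat.card π.ker) {K : Subgroup S}
    (hK : IsPGroup l K) (hKc : ∀ a ∈ K, ∀ b ∈ K, a * b = b * a)
    {x : S} (hx : orderOf x = r) (hxK : ∀ k ∈ K, x * k * x⁻¹ ∈ K)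
    {k : S} (hk : k ∈ K) (hne : x * k ≠ k * x) : False := by
  have hker := (IsFpf.not_dvd_ker hπ hr hr2 ⟨n, ρ, hn, hρ⟩)
  obtain ⟨g, rfl, hg⟩ := exists_lift hπ hr hker hx
  obtain ⟨L, hL, hL1, hL0, hL2⟩ := exists_lift_group hπ hl K hK
  obtain ⟨y, hy, rfl⟩ := hL1 k hk
  haveI : Fact l.Prime := ⟨hl⟩
  -- `L` meets the kernel trivially
  have hLk : ∀ z ∈ L, z ∈ π.ker → z = 1 := by
    intro z hz hzk
    by_contra hz1
    have h1 : l ∣ orderOf z := by
      obtain ⟨a, ha⟩ := (IsPGroup.iff_orderOf).1 hL ⟨z, hz⟩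
      rw [Subgroup.orderOf_mk] at ha
      rw [ha]
      apply dvd_pow_self
      rintro rfl
      rw [pow_zero, orderOf_eq_one_iff] at ha
      exact hz1 ha
    have h2 : orderOf z ∣ Nat.card π.ker := by
      have := orderOf_dvd_natCard (⟨z, hzk⟩ : π.ker)
      rwa [Subgroup.orderOf_mk] at this
    exact hlk (h1.trans h2)
  have hLc : ∀ a ∈ L, ∀ b ∈ L, a * b = b * a := by
    intro a ha b hb
    have h1 : a * b * a⁻¹ * b⁻¹ = 1 := by
      apply hLk
      · exact mul_mem (mul_mem (mul_mem ha hb) (inv_mem ha)) (inv_mem hb)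
      · rw [MonoidHom.mem_ker, map_mul, map_mul, map_mul, map_inv, map_inv,
          hKc _ (hL0 a ha) _ (hL0 b hb)]
        group
    rw [mul_inv_eq_one, mul_inv_eq_iff_eq_mul] at h1
    exact h1
  have h1 := comm_of_abelian ρ L g hr hLc (by rw [← hg, pow_orderOf_eq_one]) (hL2 g hxK) (hρ g hg) y hy
  have hρne : ∃ g, ρ g ≠ 1 := by
    by_contra hcon
    push Not at hcon
    haveI : Nonempty (Fin n) := ⟨⟨0, hn⟩⟩
    obtain ⟨v, hv⟩ := exists_ne (0 : Fin n → ℂ)
    exact hv (hρ g hg v (by rw [hcon g]; rfl))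
  have h2 : g * y * g⁻¹ * y⁻¹ ∈ MonoidHom.ker ρ := by
    apply (MonoidHom.mem_ker).2
    have h2 : g * y * g⁻¹ * y⁻¹ = (g * y) * (y * g)⁻¹ := by group
    rw [h2, map_mul, h1, ← map_mul, mul_inv_cancel, map_one]
  have h3 := (MonoidHom.mem_ker).1 (ker_le_of_simple hπ ρ hρne h2)
  apply hne
  rw [map_mul, map_mul, map_mul, map_inv, map_inv, mul_inv_eq_one, mul_inv_eq_iff_eq_mul] at h3
  exact h3

/-- an element of order `r` of the Levi factor acting on the unipotent radical -/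
theorem exists_act {F : Type} [Field F] [Fintype F] {m : ℕ} (hm : 2 ≤ m) {r l : ℕ} [CharP F l] (hr : r.Prime)
    (h2 : r ∣ Nat.card (GL (Fin m) F)) :
    ∃ (K : Subgroup (Matrix.ProjectiveSpecialLinearGroup (Fin (m + 1)) F))
      (x k : Matrix.ProjectiveSpecialLinearGroup (Fin (m + 1)) F), IsPGroup l K ∧
      (∀ a ∈ K, ∀ b ∈ K, a * b = b * a) ∧ orderOf x = r ∧ (∀ k ∈ K, x * k * x⁻¹ ∈ K) ∧ k ∈ K ∧ x * k ≠ k * x := by
  obtain ⟨π, -, hker⟩ := exists_proj (α := Fin m ⊕ Fin 1)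
    (MulEquiv.refl (Matrix.ProjectiveSpecialLinearGroup (Fin (m + 1)) F)) (by simp)
  obtain ⟨A, d, v, hA, hd, hv⟩ := exists_block hm hr h2
  have hd0 : d ≠ 0 := right_ne_zero_of_mul_eq_one hd
  have h : A.det * (d • (1 : Matrix (Fin 1) (Fin 1) F)).det = 1 := by simpa using hd
  have hdr : d ^ r = 1 := by
    have h1 : (A.det * d) ^ r = 1 := by rw [hd, one_pow]
    rwa [mul_pow, ← det_pow, hA, det_one, one_mul] at h1
  set x := blk A (d • (1 : Matrix (Fin 1) (Fin 1) F)) h with hx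
  have hxr : x ^ r = 1 := by
    apply ext'
    rw [Matrix.SpecialLinearGroup.coe_pow, hx, coe_blk, Matrix.SpecialLinearGroup.coe_one, ← fromBlocks_one]
    have key : ∀ k : ℕ, (fromBlocks A 0 0 (d • (1 : Matrix (Fin 1) (Fin 1) F))) ^ k =
        fromBlocks (A ^ k) 0 0 ((d ^ k) • (1 : Matrix (Fin 1) (Fin 1) F)) := by
      intro k
      induction k with
      | zero => simp
      | succ k ih => rw [pow_succ, ih, fromBlocks_multiply]; simp [pow_succ, smul_smul, mul_comm]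
    rw [key, hA, hdr, one_smul]
  have hc : ∀ w : Matrix (Fin m) (Fin 1) F, π x * π (kap w) * (π x)⁻¹ = π (kap (d⁻¹ • (A * w))) := by
    intro w
    rw [mul_inv_eq_iff_eq_mul, ← map_mul, ← map_mul, hx, blk_kap hd0]
  have hne : π x * π (kap v) ≠ π (kap v) * π x := by
    intro h1
    apply hv
    have h2 := hc v
    rw [h1, mul_inv_cancel_right] at h2
    have h3 := eq_of_pi_kap hker h2
    calc A * v = d • (d⁻¹ • (A * v)) := by rw [smul_smul, mul_inv_cancel₀ hd0, one_smul]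
      _ = d • v := by rw [← h3]
  have hord : orderOf (π x) = r := by
    have : Fact r.Prime := ⟨hr⟩
    refine orderOf_eq_prime (by rw [← map_pow, hxr, map_one]) ?_
    intro h1
    apply hne
    rw [h1, one_mul, mul_one]
  have hxK : ∀ k ∈ KK π, π x * k * (π x)⁻¹ ∈ KK π := by
    intro k hk
    obtain ⟨w, rfl⟩ := exists_of_mem_KK hk
    rw [hc]
    exact mem_KK _
  exact ⟨KK π, π x, π (kap v), isPGroup_KK (l := l), comm_KK, hord, hxK, mem_KK v, hne⟩

/-- a central involution and an element of order `t` -/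
theorem has_two_mul {Γ : Type*} [Group Γ] [Finite Γ] {T : Type*} [Group T] {π : Γ →* T} (hπ : IsCover π)
    {t : ℕ} (ht : t.Prime) (ht2 : t ≠ 2) (hd : t ∣ Nat.card T) (h2 : 2 ∣ Nat.card π.ker) : Has Γ (t * 2) := by
  haveI : Fact t.Prime := ⟨ht⟩
  haveI : Fact (Nat.Prime 2) := ⟨Nat.prime_two⟩
  obtain ⟨z, hz⟩ := exists_prime_orderOf_dvd_card' 2 h2
  have hdΓ : t ∣ Nat.card Γ := hd.trans (Subgroup.card_dvd_of_surjective π hπ.surj)
  obtain ⟨g, hg⟩ := exists_prime_orderOf_dvd_card' t hdΓ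
  have hz2 : orderOf (z : Γ) = 2 := by rw [Subgroup.orderOf_coe, hz]
  have hc : Commute g (z : Γ) := (Subgroup.mem_center_iff.1 (hπ.central z.2) g)
  refine ⟨g * z, ?_⟩
  rw [hc.orderOf_mul_eq_mul_orderOf_of_coprime (by rw [hg, hz2]; exact (Nat.coprime_primes ht Nat.prime_two).2 ht2), hg, hz2]

/-- **No representation as in the MAY theorem for `PSL_{m+1}(F)`, `|F|` even**, if `2` is not adjacent to some prime
divisor `t` of the order. -/
theorem false_of_mayAll {X : Type u} [Group X] {S : Type v} [Group S] {P : ℕ → Prop} (h : MayAll X S P)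
    {F : Type} [Field F] [Fintype F] [CharP F 2] {m : ℕ} (hm : 2 ≤ m)
    (e : S ≃* Matrix.ProjectiveSpecialLinearGroup (Fin (m + 1)) F) {r t : ℕ} (hr : r.Prime) (hr2 : r ≠ 2)
    (hd : r ∣ Nat.card (GL (Fin m) F)) (hP : P r) (ht : t.Prime) (ht2 : t ≠ 2) (htd : t ∣ Nat.card S)
    (ht' : ¬ Has X (t * 2)) : False := by
  obtain ⟨Γ, i1, i2, π, n, ρ, hπ, hn, hX, hρ⟩ := h
  have hs : IsSimpleGroup (Matrix.ProjectiveSpecialLinearGroup (Fin (m + 1)) F) := Cfsg.Agent.S0249.result (m + 1) (by omega)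
  have hπ' : IsCover (e.toMonoidHom.comp π) := by
    have hk : (e.toMonoidHom.comp π).ker = π.ker := by
      ext g
      rw [MonoidHom.mem_ker, MonoidHom.mem_ker]
      change e (π g) = 1 ↔ _
      rw [map_eq_one_iff e e.injective]
    exact ⟨e.surjective.comp hπ.surj, by rw [hk]; exact hπ.central, hπ.perf⟩
  obtain ⟨K, x, k, h1, h2, h3, h4, h5, h6⟩ := exists_act (F := F) (l := 2) hm hr hd
  refine not_fpf_of_cover hπ' ρ hn hr hr2 Nat.prime_two (hρ r hP) (fun h2 => ?_) h1 h2 h3 h4 h5 h6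
  exact ht' (hX _ (has_two_mul hπ' ht ht2 (by rw [← Nat.card_congr e.toEquiv]; exact htd) h2))

end Cfsg.Agent.H425.NR

namespace Cfsg.Agent.H425.NR

open Cfsg.Agent.H80.Fpf Cfsg.Agent.H377.NR Cfsg.Agent.H389.NR Cfsg.Agent.H402.Rec
open Cfsg.Agent.H389.JSq (Has)

universe u

section

variable {e : Bool} {p q : ℕ} {G : Type u} [Group G] [Finite G]

theorem not_isc3_sub {r q : ℕ} (hr : r.Prime) (h : ¬ r ∣ q ^ 2 - 1) {d : ℕ} (hd : d ∣ q ^ 2 - 1) : ¬ r ∣ d :=
  fun h1 => h (h1.trans hd)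

variable (h : FactL e p q G) (K : Subgroup G) [K.Normal] (hK : Group.IsSolvable K)
    (S : Subgroup (G ⧸ K)) [S.Normal] (hS : IsSimpleGroup S) (hna : ¬ IsMulCommutative S) (hcoc : CocP K S)
    (hIB : ∀ {r s : ℕ}, r.Prime → s.Prime → r ∣ S.index → ¬ r ∣ Nat.card S → s ∣ Nat.card S →
      (¬ ∃ x : G ⧸ K, orderOf x = r * s) → s % r = 1)
    (hRow : Row S) (hOut : ∀ a b, TwoMay S a b → PairOut S a b)

theorem card_S_dvd (K : Subgroup G) [K.Normal] (S : Subgroup (G ⧸ K)) : Nat.card S ∣ Nat.card G := by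
  rw [card_decomp K S]
  exact Dvd.intro_left _ rfl

include h hK hS hna hcoc hIB hRow hOut

/-- the prime divisors of `R4` divide `|S|` -/
theorem four_dvd {r : ℕ} (hr : r.Prime) (hrd : r ∣ R4 q) : r ∣ Nat.card S := by
  by_contra hrS
  have h5 := h.five_le_four hr hrd
  have h2 : ¬ Adj G r 2 ∨ ∀ s, s.Prime → s ∣ Q3 e q → ¬ Adj G s 2 := by
    by_cases h4 : M1 e q % 4 = 0
    · exact Or.inl (h.not_adj_four_two h4 hr hrd)
    · exact Or.inr fun s hs hsd => h.not_adj_three_two h4 hs hsd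
  obtain ⟨s, j, hs, hB, hj1, hT, hM, hj⟩ := side K hK S hS hna hcoc hIB hRow (p := p) (B := Q3 e q) (r := r) h.h5
    (by omega) h.one_lt_Q3 (fun s hs hsd => h.five_le_three hs hsd) (h.na_four_p hr hrd)
    (fun s hs hsd => (h.na_three_four hs hsd hr hrd).symm) (fun s hs hsd => h.na_three_p hs hsd)
    (not_isc3_sub hr (of_dvd_R4 h.one_le h.odd hr hrd).1 h.p_sub_one_dvd) h.ex3 h2 hrS
  obtain ⟨⟨rfl, rfl, rfl, rfl⟩, F, i1, i2, hF⟩ := h.out_three hs hB hj1 (hOut _ _ hT) hj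
  have h7 : 7 ∣ Q3 false 5 := by decide
  have h13 : r = 13 := by
    have : R4 5 = 13 := by decide
    rw [this] at hrd
    exact (Nat.prime_dvd_prime_iff_eq hr (by norm_num)).1 hrd
  have hadj : ¬ Has G (7 * 2) := h.not_adj_three_two (by decide) (by norm_num) h7
  rcases hF with ⟨hF, ⟨f⟩⟩ | ⟨hF, ⟨f⟩⟩
  · haveI : CharP F 2 := by
      obtain ⟨l, hl⟩ := CharP.exists F
      obtain ⟨n, hlp, hn⟩ := FiniteField.card F l
      rw [hF] at hn
      have h1 : l ∣ 2 ^ 2 := by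
        norm_num
        rw [hn]
        exact dvd_pow_self _ n.ne_zero
      have h2 : l = 2 := (Nat.prime_dvd_prime_iff_eq hlp Nat.prime_two).1 (hlp.dvd_of_dvd_pow h1)
      rw [← h2]
      exact hl
    refine false_of_mayAll hM (m := 2) le_rfl f (r := 5) (t := 7) (by norm_num) (by norm_num) ?_
      ⟨by norm_num, by omega, ?_⟩ (by norm_num) (by norm_num) hT.db hadj
    · rw [Matrix.card_GL_field, Fin.prod_univ_two, hF]
      norm_num
    · exact (h.na_four_p hr hrd).2.2.2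
  · haveI : CharP F 2 := by
      obtain ⟨l, hl⟩ := CharP.exists F
      obtain ⟨n, hlp, hn⟩ := FiniteField.card F l
      rw [hF] at hn
      have h1 : l ∣ 2 := by
        rw [hn]
        exact dvd_pow_self _ n.ne_zero
      have h2 : l = 2 := (Nat.prime_dvd_prime_iff_eq hlp Nat.prime_two).1 h1
      rw [← h2]
      exact hl
    refine false_of_mayAll hM (m := 3) (by norm_num) f (r := 7) (t := 7) (by norm_num) (by norm_num) ?_
      ⟨by norm_num, by omega, ?_⟩ (by norm_num) (by norm_num) hT.db hadj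
    · rw [Matrix.card_GL_field, Fin.prod_univ_three, hF]
      norm_num
    · exact (h.na_three_four (by norm_num) h7 hr hrd).symm.2.2.2

/-- the prime divisors of `Q3` divide `|S|` -/
theorem three_dvd {r : ℕ} (hr : r.Prime) (hrd : r ∣ Q3 e q) : r ∣ Nat.card S := by
  by_contra hrS
  have h5 := h.five_le_three hr hrd
  have h2 : ¬ Adj G r 2 ∨ ∀ s, s.Prime → s ∣ R4 q → ¬ Adj G s 2 := by
    by_cases h4 : M1 e q % 4 = 0
    · exact Or.inr fun s hs hsd => h.not_adj_four_two h4 hs hsd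
    · exact Or.inl (h.not_adj_three_two h4 hr hrd)
  obtain ⟨s, j, hs, hB, hj1, hT, hM, hj⟩ := side K hK S hS hna hcoc hIB hRow (p := p) (B := R4 q) (r := r) h.h5
    (by omega) h.one_lt_R4 (fun s hs hsd => h.five_le_four hs hsd) (h.na_three_p hr hrd)
    (fun s hs hsd => h.na_three_four hr hrd hs hsd) (fun s hs hsd => h.na_four_p hs hsd)
    (not_isc3_sub hr (of_dvd_Q3 h.one_le hr hrd).1 h.p_sub_one_dvd) h.ex4 h2 hrS
  exact h.out_four hs hB hj1 (hOut _ _ hT) hj (card_S_dvd K S) hr hrd hrS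

/-- **`Fine K S`** -/
theorem fine_four : Fine K S := by
  intro v hv hvK
  obtain ⟨r, hr, hrd⟩ := Nat.exists_prime_and_dvd h.one_lt_Q3.ne'
  obtain ⟨s, hs, hsd⟩ := Nat.exists_prime_and_dvd h.one_lt_R4.ne'
  have hvG : v ∣ Nat.card G := hvK.trans (Subgroup.card_subgroup_dvd_card K)
  have nrs := h.na_three_four hr hrd hs hsd
  have nrp := h.na_three_p hr hrd
  have nsp := h.na_four_p hs hsd
  have hr5 := h.five_le_three hr hrd
  have hs5 := h.five_le_four hs hsd
  -- the choice of `r` and `s`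
  have choose_s : v ≠ s → ¬ Adj G s v → (∃ t, C3 G v t) ∨
      ∃ r, r ≠ 2 ∧ NA G v r ∧ (∃ t, C3 G r t) ∧ r ∣ Nat.card ↥S := fun hvs hn =>
    Or.inr ⟨s, by omega, NA.symm ⟨nsp.1, ⟨hv, hvG⟩, hvs.symm, hn⟩, ⟨p, nsp, r, nrs.symm, nrp.symm⟩,
      four_dvd h K hK S hS hna hcoc hIB hRow hOut hs hsd⟩
  have choose_r : v ≠ r → ¬ Adj G r v → (∃ t, C3 G v t) ∨
      ∃ r, r ≠ 2 ∧ NA G v r ∧ (∃ t, C3 G r t) ∧ r ∣ Nat.card ↥S := fun hvr hn =>
    Or.inr ⟨r, by omega, NA.symm ⟨nrp.1, ⟨hv, hvG⟩, hvr.symm, hn⟩, ⟨p, nrp, s, nrs, nsp.symm⟩,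
      three_dvd h K hK S hS hna hcoc hIB hRow hOut hr hrd⟩
  by_cases hv2 : v = 2
  · subst hv2
    by_cases h4 : M1 e q % 4 = 0
    · exact choose_s (by omega) (h.not_adj_four_two h4 hs hsd)
    · exact choose_r (by omega) (h.not_adj_three_two h4 hr hrd)
  rcases h.prime_cases hv hvG with rfl | hd | hd | hd | hd
  · exact Or.inl ⟨r, nrp.symm, s, nsp.symm, nrs⟩
  · exact Or.inl ⟨s, h.na_three_four hv hd hs hsd, p, h.na_three_p hv hd, nsp⟩
  · exact Or.inl ⟨r, (h.na_three_four hr hrd hv hd).symm, p, h.na_four_p hv hd, nrp⟩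
  · refine choose_s ?_ (h.not_adj_four hs hsd (h.not_M4 hv hv2 hd))
    rintro rfl
    exact (of_dvd_R4 h.one_le h.odd hs hsd).1 (hd.trans (M1_dvd e h.one_le))
  · refine choose_r ?_ (h.not_adj_three hr hrd (h.not_M3 hv hv2 hd))
    rintro rfl
    have h1 : ((v : ℕ) : ℤ) ∣ ((q ^ 2 - 1 : ℕ) : ℤ) := by
      rw [sq_sub_one_sg e h.one_le, show sg e q ^ 2 - 1 = (sg e q + 1) * (sg e q - 1) by ring]
      exact hd.mul_right _
    exact (of_dvd_Q3 h.one_le hr hrd).1 (by exact_mod_cast h1)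

end

end Cfsg.Agent.H425.NR
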