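import Cfsg.Agent.H425.NR.Pair
import Cfsg.Agent.H425.NR.Uni

/-!
# `PSp_2m(q)` and `PSU_n(q)`: no two primes `≥ 5` acting fixed point freely (helper425, for S3440)
-/

set_option autoImplicit false
set_option linter.style.haveILetI false
set_option linter.unusedSectionVars false
set_option linter.unusedSimpArgs false
set_option linter.unusedVariables false

namespace Cfsg.Agent.H425.NR

open Cfsg Cfsg.Agent.H80.Fpf

section Sp

open Matrix SpH

theorem lt_self_pow_mul {l n N : ℕ} (hl : 2 ≤ l) (hn : n ≤ l ^ (N - 1)) (hN : 1 ≤ N) (hn0 : 1 ≤ n) :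
    ∃ b, n ≤ l ^ b ∧ b + 1 ≤ N := by
  exact ⟨N - 1, hn, by omega⟩

/-- the characteristic -/
theorem not_may_char_psp {F : Type} [Field F] [Fintype F] {m : ℕ} (hm : 2 ≤ m) {l : ℕ} [Fact l.Prime] [CharP F l]
    (hl2 : l ≠ 2) : ¬ May l (Cfsg.PSp m F) := by
  have hlp : l.Prime := Fact.out
  obtain ⟨k, -, hk⟩ := FiniteField.card F l
  have hq : l ∣ Fintype.card F := by rw [hk]; exact dvd_pow_self _ k.ne_zero
  let e : Fin (2 * m) ≃ Fin m ⊕ Fin m := (finCongr (by omega)).trans finSumFinEquiv.symm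
  let f : Matrix.symplecticGroup (Fin m) F →* Matrix (Fin (2 * m)) (Fin (2 * m)) F :=
    { toFun := fun g => (g : Matrix (Fin m ⊕ Fin m) (Fin m ⊕ Fin m) F).submatrix e e
      map_one' := by
        show (1 : Matrix (Fin m ⊕ Fin m) (Fin m ⊕ Fin m) F).submatrix e e = 1
        exact Matrix.submatrix_one_equiv e
      map_mul' := fun g h => by
        show ((g : Matrix (Fin m ⊕ Fin m) (Fin m ⊕ Fin m) F) * (h : Matrix (Fin m ⊕ Fin m) (Fin m ⊕ Fin m) F)).submatrix e e = _
        exact (Matrix.submatrix_mul_equiv _ _ e e e).symm }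
  have hf : Function.Injective f := by
    intro g h hgh
    apply Subtype.ext
    have h1 : (g : Matrix (Fin m ⊕ Fin m) (Fin m ⊕ Fin m) F).submatrix e e =
      (h : Matrix (Fin m ⊕ Fin m) (Fin m ⊕ Fin m) F).submatrix e e := hgh
    ext i j
    have h2 := congrFun (congrFun h1 (e.symm i)) (e.symm j)
    simpa using h2
  refine not_may_of_lin hf (QuotientGroup.mk' (Subgroup.center (Matrix.symplecticGroup (Fin m) F))) ?_ hl2
    (b := m ^ 2 - 1) ?_ ?_
  · rw [QuotientGroup.ker_mk', Cfsg.Agent.S0246.result (F := F) rfl m (by omega)]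
    intro h
    have h1 : l ∣ 2 := h.trans (Nat.gcd_dvd_left _ _)
    exact hl2 ((Nat.prime_dvd_prime_iff_eq hlp Nat.prime_two).1 h1)
  · have h3 : 3 ≤ l := by
      have := hlp.two_le
      omega
    have h4 : m ≤ m ^ 2 - 1 := by
      have : m * 2 ≤ m * m := Nat.mul_le_mul_left m hm
      rw [sq]; omega
    calc 2 * m ≤ 3 ^ m := by
          clear h4 f e hf
          induction m with
          | zero => omega
          | succ n ih =>
            by_cases h5 : 2 ≤ n
            · have := ih h5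
              rw [pow_succ]; omega
            · have : n = 1 := by omega
              subst this; norm_num
      _ ≤ l ^ m := Nat.pow_le_pow_left h3 m
      _ ≤ l ^ (m ^ 2 - 1) := Nat.pow_le_pow_right (by omega) h4
  · rw [Cfsg.Agent.S0245.result (F := F) rfl]
    have h1 : m ^ 2 - 1 + 1 = m ^ 2 := Nat.sub_add_cancel (Nat.one_le_pow _ _ (by omega))
    rw [h1]
    exact (pow_dvd_pow_of_dvd hq _).mul_right _

/-- the field of order `q ^ m` -/
theorem exists_ext_field {F : Type} [Field F] [Fintype F] {m : ℕ} (hm : m ≠ 0) :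
    ∃ (K : Type) (_ : Field K) (_ : Fintype K), Fintype.card K = Fintype.card F ^ m := by
  obtain ⟨p, hpc⟩ := CharP.exists F
  obtain ⟨n, hpp, hn⟩ := FiniteField.card F p
  haveI : Fact p.Prime := ⟨hpp⟩
  haveI : Fintype (GaloisField p (n * m)) := Fintype.ofFinite _
  refine ⟨GaloisField p (n * m), inferInstance, inferInstance, ?_⟩
  rw [← Nat.card_eq_fintype_card, GaloisField.card p ((n : ℕ) * m) (Nat.mul_ne_zero n.2.ne' hm), hn, pow_mul]

/-- **`PSp_2m(q)`** -/
theorem not_two_psp {F : Type} [Field F] [Fintype F] {m : ℕ} (hm : 2 ≤ m) (hm2 : m = 2 → 3 ≤ Fintype.card F)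
    {x y : ℕ} (h : TwoMay (Cfsg.PSp m F) x y) : False := by
  haveI hsimple : IsSimpleGroup (Cfsg.PSp m F) := Cfsg.Agent.S0270.result m hm hm2
  obtain ⟨p, hpc⟩ := CharP.exists F
  haveI := hpc
  obtain ⟨n, hpp, hn⟩ := FiniteField.card F p
  haveI : Fact p.Prime := ⟨hpp⟩
  obtain ⟨a, rfl⟩ : ∃ a, m = a + 1 := ⟨m - 1, by omega⟩
  have hq2 : 2 ≤ Fintype.card F := Fintype.one_lt_card
  have hpq : p ∣ Fintype.card F := by rw [hn]; exact dvd_pow_self _ n.2.ne'
  have hgcd : ∀ r : ℕ, r.Prime → r ≠ 2 → ¬ r ∣ Nat.gcd 2 (Fintype.card F - 1) := by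
    intro r hr hr2 h
    exact hr2 ((Nat.prime_dvd_prime_iff_eq hr Nat.prime_two).1 (h.trans (Nat.gcd_dvd_left _ _)))
  have hgcdp : ¬ p ∣ Nat.gcd 2 (Fintype.card F - 1) := by
    intro h
    have h1 : p ∣ Fintype.card F - 1 := h.trans (Nat.gcd_dvd_right _ _)
    have h2 : p ∣ 1 := by
      have h3 : Fintype.card F = (Fintype.card F - 1) + 1 := by omega
      rw [h3] at hpq
      exact (Nat.dvd_add_right h1).1 hpq
    exact hpp.one_lt.ne' (Nat.dvd_one.1 h2)
  -- prime divisors
  have hdvd : ∀ r : ℕ, r.Prime → r ∣ Nat.card (Cfsg.PSp (a + 1) F) →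
      r = p ∨ r ∣ Nat.card (Matrix.symplecticGroup (Fin a) F) ∨ r ∣ Fintype.card F ^ (a + 1) - 1 ∨
        r ∣ Fintype.card F ^ (a + 1) + 1 := by
    intro r hr hd
    have hd1 : r ∣ Nat.card (Matrix.symplecticGroup (Fin (a + 1)) F) :=
      hd.trans (Subgroup.card_quotient_dvd_card _)
    rw [Cfsg.Agent.S0245.result (F := F) rfl, Finset.prod_range_succ, ← mul_assoc] at hd1
    rcases hr.dvd_mul.1 hd1 with h1 | h1
    · rcases hr.dvd_mul.1 h1 with h2 | h2
      · left
        have h3 := hr.dvd_of_dvd_pow h2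
        rw [hn] at h3
        exact (Nat.prime_dvd_prime_iff_eq hr hpp).1 (hr.dvd_of_dvd_pow h3)
      · right; left
        rw [Cfsg.Agent.S0245.result (F := F) rfl]
        exact h2.mul_left _
    · right; right
      have h2 : Fintype.card F ^ (2 * (a + 1)) - 1 = (Fintype.card F ^ (a + 1) + 1) * (Fintype.card F ^ (a + 1) - 1) := by
        have := Nat.sq_sub_sq (Fintype.card F ^ (a + 1)) 1
        rw [one_pow, ← pow_mul, mul_comm (a + 1) 2] at this
        exact this
      rw [h2] at h1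
      rcases hr.dvd_mul.1 h1 with h3 | h3
      · exact Or.inr h3
      · exact Or.inl h3
  obtain ⟨K, iK1, iK2, hK⟩ := exists_ext_field (F := F) (m := a + 1) (by omega)
  have hK3 : 3 < Fintype.card K := by
    rw [hK]
    by_cases ha : a + 1 = 2
    · have h3 := hm2 ha
      rw [ha]
      nlinarith
    · calc 3 < 2 ^ 3 := by norm_num
        _ ≤ Fintype.card F ^ 3 := Nat.pow_le_pow_left hq2 3
        _ ≤ Fintype.card F ^ (a + 1) := Nat.pow_le_pow_right (by omega) (by omega)
  by_cases hexc : a + 1 = 3 ∧ Fintype.card F = 2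
  · -- `Sp_6(2)`
    obtain ⟨ha, hF2⟩ := hexc
    obtain rfl : a = 2 := by omega
    have h7 : ¬ May 7 (Cfsg.PSp (2 + 1) F) := by
      intro hM
      refine not_may_sub_one (F := K) hK3 ?_ (r := 7) (by norm_num) (by norm_num) ?_
        (may_psl2_of_psp (by omega) hK hK3 hM)
      · rw [hK, hF2]; norm_num
      · rw [hK, hF2]; norm_num
    have hprimes : ∀ r : ℕ, r.Prime → 5 ≤ r → r ∣ Nat.card (Cfsg.PSp (2 + 1) F) → May r (Cfsg.PSp (2 + 1) F) → r = 5 := by
      intro r hr hr5 hd hM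
      have hd1 : r ∣ Nat.card (Matrix.symplecticGroup (Fin (2 + 1)) F) :=
        hd.trans (Subgroup.card_quotient_dvd_card _)
      rw [Cfsg.Agent.S0245.result (F := F) rfl, hF2] at hd1
      have h1 : 2 ^ ((2 + 1) ^ 2) * ∏ i ∈ Finset.range (2 + 1), (2 ^ (2 * (i + 1)) - 1) = 2 ^ 9 * (3 ^ 4 * (5 * 7)) := by
        decide
      rw [h1] at hd1
      rcases hr.dvd_mul.1 hd1 with h2 | h2
      · have := (Nat.prime_dvd_prime_iff_eq hr Nat.prime_two).1 (hr.dvd_of_dvd_pow h2); omega
      · rcases hr.dvd_mul.1 h2 with h3 | h3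
        · have := (Nat.prime_dvd_prime_iff_eq hr Nat.prime_three).1 (hr.dvd_of_dvd_pow h3); omega
        · rcases hr.dvd_mul.1 h3 with h4 | h4
          · exact (Nat.prime_dvd_prime_iff_eq hr Nat.prime_five).1 h4
          · have := (Nat.prime_dvd_prime_iff_eq hr (by norm_num)).1 h4
            subst this
            exact absurd hM h7
    exact h.ne ((hprimes x h.pa h.a5 h.da h.ma).trans (hprimes y h.pb h.b5 h.db h.mb).symm)
  -- general case
  have hmult : MultDvd (Cfsg.PSp (a + 1) F) (Nat.gcd 2 (Fintype.card F - 1)) :=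
    multDvd_of_cyclic (Nat.gcd_pos_of_pos_left _ (by omega)).ne' (Cfsg.Agent.S2092.result rfl _ hm hm2 hexc)
  have h2 : p = 2 → MultDvd (Cfsg.PSp (a + 1) F) 1 := by
    rintro rfl
    have h1 : Nat.gcd 2 (Fintype.card F - 1) = 1 := (Nat.Prime.coprime_iff_not_dvd Nat.prime_two).2 (by omega)
    rwa [h1] at hmult
  have hno : ∀ r : ℕ, r.Prime → r ≠ 2 → r ≠ p →
      (r ∣ Nat.card (Matrix.symplecticGroup (Fin a) F) ∨ r ∣ Fintype.card F ^ (a + 1) - 1) → ¬ May r (Cfsg.PSp (a + 1) F) := by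
    intro r hr hr2 hrp hd
    rcases hd with hd | hd
    · refine not_may_blk (prS (finSumFinEquiv : Fin a ⊕ Fin 1 ≃ Fin (a + 1)) F) hpp hr hr2 hrp.symm ?_ ?_ h2 hd
      · rw [card_ker_prS (by omega)]; exact hgcdp
      · rw [card_ker_prS (by omega)]; exact hgcd r hr hr2
    · refine not_may_levi (prS (Equiv.refl (Fin (a + 1))) F) hpp hr hr2 hrp.symm ?_ ?_ h2 ?_
      · rw [card_ker_prS (by omega)]; exact hgcdp
      · rw [card_ker_prS (by omega)]; exact hgcd r hr hr2
      · rw [Matrix.card_GL_field]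
        refine hd.trans ?_
        have h3 := Finset.dvd_prod_of_mem (fun i : Fin (a + 1) => Fintype.card F ^ (a + 1) - Fintype.card F ^ (i : ℕ))
          (Finset.mem_univ (0 : Fin (a + 1)))
        simpa using h3
  have key : ∀ r s : ℕ, r.Prime → r ≠ 2 → s.Prime → s ≠ 2 → r < s → r ∣ Fintype.card F ^ (a + 1) + 1 →
      s ∣ Fintype.card F ^ (a + 1) + 1 → ¬ May r (Cfsg.PSp (a + 1) F) := by
    intro r s hr hr2 hs hs2 hrs hrd hsd hM
    rw [← hK] at hrd hsd
    exact not_may_add_one hK3 hr hr2 hs hs2 hrs hrd hsd (may_psl2_of_psp (by omega) hK hK3 hM)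
  have hall : ∀ r : ℕ, r.Prime → 5 ≤ r → r ∣ Nat.card (Cfsg.PSp (a + 1) F) → May r (Cfsg.PSp (a + 1) F) →
      r ∣ Fintype.card F ^ (a + 1) + 1 := by
    intro r hr hr5 hd hM
    have hrp : r ≠ p := by
      rintro rfl
      exact not_may_char_psp (F := F) hm (by omega) hM
    rcases hdvd r hr hd with h1 | h1 | h1 | h1
    · exact absurd h1 hrp
    · exact absurd hM (hno r hr (by omega) hrp (Or.inl h1))
    · exact absurd hM (hno r hr (by omega) hrp (Or.inr h1))
    · exact h1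
  have hx := hall x h.pa h.a5 h.da h.ma
  have hy := hall y h.pb h.b5 h.db h.mb
  have hx2 : x ≠ 2 := by have := h.a5; omega
  have hy2 : y ≠ 2 := by have := h.b5; omega
  rcases lt_or_gt_of_ne h.ne with h1 | h1
  · exact key x y h.pa hx2 h.pb hy2 h1 hx hy h.ma
  · exact key y x h.pb hy2 h.pa hx2 h1 hy hx h.mb

end Sp

end Cfsg.Agent.H425.NR
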